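import Cfsg.Agent.Lib.Grp.Co3.Defs

set_option autoImplicit false
set_option maxRecDepth 100000
set_option Elab.async false

namespace Cfsg.Agent.CG.Co3

theorem c0 : allRange (chkBase 276 12 (appT tabs t80 0xfff) 0 (inv 0)) 0 276 = true := by decide +kernel
theorem c1 : allRange (chkBase 276 12 (appT tabs t80 0xfff) 1 (inv 1)) 0 276 = true := by decide +kernel
theorem c2 : allRange (chkBase 276 12 (appT tabs t80 0xfff) 2 (inv 2)) 0 276 = true := by decide +kernel
theorem c3 : allRange (chkBase 276 12 (appT tabs t80 0xfff) 3 (inv 3)) 0 276 = true := by decide +kernel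
theorem c4 : chkDef 12 (appT tabs t80 0xfff) 4 (slp 4) 0 276 = true := by decide +kernel
theorem c5 : chkDef 12 (appT tabs t80 0xfff) 5 (slp 5) 0 276 = true := by decide +kernel
theorem c6 : chkDef 12 (appT tabs t80 0xfff) 6 (slp 6) 0 276 = true := by decide +kernel
theorem c7 : chkDef 12 (appT tabs t80 0xfff) 7 (slp 7) 0 276 = true := by decide +kernel
theorem c8 : chkDef 12 (appT tabs t80 0xfff) 8 (slp 8) 0 276 = true := by decide +kernel
theorem c9 : chkDef 12 (appT tabs t80 0xfff) 9 (slp 9) 0 276 = true := by decide +kernel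
theorem c10 : chkDef 12 (appT tabs t80 0xfff) 10 (slp 10) 0 276 = true := by decide +kernel
theorem c11 : chkDef 12 (appT tabs t80 0xfff) 11 (slp 11) 0 276 = true := by decide +kernel
theorem c12 : chkDef 12 (appT tabs t80 0xfff) 12 (slp 12) 0 276 = true := by decide +kernel
theorem c13 : chkDef 12 (appT tabs t80 0xfff) 13 (slp 13) 0 276 = true := by decide +kernel
theorem c14 : chkDef 12 (appT tabs t80 0xfff) 14 (slp 14) 0 276 = true := by decide +kernel
theorem c15 : chkDef 12 (appT tabs t80 0xfff) 15 (slp 15) 0 276 = true := by decide +kernel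
theorem c16 : chkDef 12 (appT tabs t80 0xfff) 16 (slp 16) 0 276 = true := by decide +kernel
theorem c17 : chkDef 12 (appT tabs t80 0xfff) 17 (slp 17) 0 276 = true := by decide +kernel
theorem c18 : chkDef 12 (appT tabs t80 0xfff) 18 (slp 18) 0 276 = true := by decide +kernel
theorem c19 : chkDef 12 (appT tabs t80 0xfff) 19 (slp 19) 0 276 = true := by decide +kernel
theorem c20 : chkDef 12 (appT tabs t80 0xfff) 20 (slp 20) 0 276 = true := by decide +kernel
theorem c21 : chkDef 12 (appT tabs t80 0xfff) 21 (slp 21) 0 276 = true := by decide +kernel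
theorem c22 : chkDef 12 (appT tabs t80 0xfff) 22 (slp 22) 0 276 = true := by decide +kernel
theorem c23 : chkDef 12 (appT tabs t80 0xfff) 23 (slp 23) 0 276 = true := by decide +kernel
theorem c24 : chkDef 12 (appT tabs t80 0xfff) 24 (slp 24) 0 276 = true := by decide +kernel
theorem c25 : chkDef 12 (appT tabs t80 0xfff) 25 (slp 25) 0 276 = true := by decide +kernel
theorem c26 : chkDef 12 (appT tabs t80 0xfff) 26 (slp 26) 0 276 = true := by decide +kernel
theorem c27 : chkDef 12 (appT tabs t80 0xfff) 27 (slp 27) 0 276 = true := by decide +kernel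
theorem c28 : chkDef 12 (appT tabs t80 0xfff) 28 (slp 28) 0 276 = true := by decide +kernel
theorem c29 : chkDef 12 (appT tabs t80 0xfff) 29 (slp 29) 0 276 = true := by decide +kernel
theorem c30 : chkDef 12 (appT tabs t80 0xfff) 30 (slp 30) 0 276 = true := by decide +kernel
theorem c31 : chkDef 12 (appT tabs t80 0xfff) 31 (slp 31) 0 276 = true := by decide +kernel
theorem c32 : chkDef 12 (appT tabs t80 0xfff) 32 (slp 32) 0 276 = true := by decide +kernel
theorem c33 : chkDef 12 (appT tabs t80 0xfff) 33 (slp 33) 0 276 = true := by decide +kernel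
theorem c34 : chkDef 12 (appT tabs t80 0xfff) 34 (slp 34) 0 276 = true := by decide +kernel
theorem c35 : chkDef 12 (appT tabs t80 0xfff) 35 (slp 35) 0 276 = true := by decide +kernel
theorem c36 : chkDef 12 (appT tabs t80 0xfff) 36 (slp 36) 0 276 = true := by decide +kernel
theorem c37 : chkDef 12 (appT tabs t80 0xfff) 37 (slp 37) 0 276 = true := by decide +kernel
theorem c38 : chkDef 12 (appT tabs t80 0xfff) 38 (slp 38) 0 276 = true := by decide +kernel
theorem c39 : chkDef 12 (appT tabs t80 0xfff) 39 (slp 39) 0 276 = true := by decide +kernel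
theorem c40 : chkDef 12 (appT tabs t80 0xfff) 40 (slp 40) 0 276 = true := by decide +kernel
theorem c41 : chkDef 12 (appT tabs t80 0xfff) 41 (slp 41) 0 276 = true := by decide +kernel
theorem c42 : chkDef 12 (appT tabs t80 0xfff) 42 (slp 42) 0 276 = true := by decide +kernel
theorem c43 : chkDef 12 (appT tabs t80 0xfff) 43 (slp 43) 0 276 = true := by decide +kernel
theorem c44 : chkDef 12 (appT tabs t80 0xfff) 44 (slp 44) 0 276 = true := by decide +kernel
theorem c45 : chkDef 12 (appT tabs t80 0xfff) 45 (slp 45) 0 276 = true := by decide +kernel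
theorem c46 : chkDef 12 (appT tabs t80 0xfff) 46 (slp 46) 0 276 = true := by decide +kernel
theorem c47 : chkDef 12 (appT tabs t80 0xfff) 47 (slp 47) 0 276 = true := by decide +kernel
theorem c48 : chkDef 12 (appT tabs t80 0xfff) 48 (slp 48) 0 276 = true := by decide +kernel
theorem c49 : chkDef 12 (appT tabs t80 0xfff) 49 (slp 49) 0 276 = true := by decide +kernel
theorem c50 : chkDef 12 (appT tabs t80 0xfff) 50 (slp 50) 0 276 = true := by decide +kernel
theorem c51 : chkDef 12 (appT tabs t80 0xfff) 51 (slp 51) 0 276 = true := by decide +kernel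
theorem c52 : chkDef 12 (appT tabs t80 0xfff) 52 (slp 52) 0 276 = true := by decide +kernel
theorem c53 : chkDef 12 (appT tabs t80 0xfff) 53 (slp 53) 0 276 = true := by decide +kernel
theorem c54 : chkDef 12 (appT tabs t80 0xfff) 54 (slp 54) 0 276 = true := by decide +kernel
theorem c55 : chkDef 12 (appT tabs t80 0xfff) 55 (slp 55) 0 276 = true := by decide +kernel
theorem c56 : chkDef 12 (appT tabs t80 0xfff) 56 (slp 56) 0 276 = true := by decide +kernel
theorem c57 : chkDef 12 (appT tabs t80 0xfff) 57 (slp 57) 0 276 = true := by decide +kernel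
theorem c58 : chkDef 12 (appT tabs t80 0xfff) 58 (slp 58) 0 276 = true := by decide +kernel
theorem c59 : chkDef 12 (appT tabs t80 0xfff) 59 (slp 59) 0 276 = true := by decide +kernel
theorem c60 : chkDef 12 (appT tabs t80 0xfff) 60 (slp 60) 0 276 = true := by decide +kernel
theorem c61 : chkDef 12 (appT tabs t80 0xfff) 61 (slp 61) 0 276 = true := by decide +kernel
theorem c62 : chkDef 12 (appT tabs t80 0xfff) 62 (slp 62) 0 276 = true := by decide +kernel
theorem c63 : chkDef 12 (appT tabs t80 0xfff) 63 (slp 63) 0 276 = true := by decide +kernel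
theorem c64 : chkDef 12 (appT tabs t80 0xfff) 64 (slp 64) 0 276 = true := by decide +kernel
theorem c65 : chkDef 12 (appT tabs t80 0xfff) 65 (slp 65) 0 276 = true := by decide +kernel
theorem c66 : chkDef 12 (appT tabs t80 0xfff) 66 (slp 66) 0 276 = true := by decide +kernel
theorem c67 : chkDef 12 (appT tabs t80 0xfff) 67 (slp 67) 0 276 = true := by decide +kernel
theorem c68 : chkDef 12 (appT tabs t80 0xfff) 68 (slp 68) 0 276 = true := by decide +kernel
theorem c69 : chkDef 12 (appT tabs t80 0xfff) 69 (slp 69) 0 276 = true := by decide +kernel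
theorem c70 : chkDef 12 (appT tabs t80 0xfff) 70 (slp 70) 0 276 = true := by decide +kernel
theorem c71 : chkDef 12 (appT tabs t80 0xfff) 71 (slp 71) 0 276 = true := by decide +kernel
theorem c72 : chkDef 12 (appT tabs t80 0xfff) 72 (slp 72) 0 276 = true := by decide +kernel
theorem c73 : chkDef 12 (appT tabs t80 0xfff) 73 (slp 73) 0 276 = true := by decide +kernel
theorem c74 : chkDef 12 (appT tabs t80 0xfff) 74 (slp 74) 0 276 = true := by decide +kernel
theorem c75 : chkDef 12 (appT tabs t80 0xfff) 75 (slp 75) 0 276 = true := by decide +kernel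
theorem c76 : chkDef 12 (appT tabs t80 0xfff) 76 (slp 76) 0 276 = true := by decide +kernel
theorem c77 : chkDef 12 (appT tabs t80 0xfff) 77 (slp 77) 0 276 = true := by decide +kernel
theorem c78 : chkDef 12 (appT tabs t80 0xfff) 78 (slp 78) 0 276 = true := by decide +kernel
theorem c79 : chkDef 12 (appT tabs t80 0xfff) 79 (slp 79) 0 276 = true := by decide +kernel
theorem c80 : chkDef 12 (appT tabs t80 0xfff) 80 (false, []) 0 276 = true := by decide +kernel
theorem c81 : mc0.chk (appT tabs t80 0xfff) 1 275 = true := by decide +kernel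
theorem c82 : mc1.chk (appT tabs t80 0xfff) 1 274 = true := by decide +kernel
theorem c83 : mc2.chk (appT tabs t80 0xfff) 1 111 = true := by decide +kernel
theorem c84 : mc3.chk (appT tabs t80 0xfff) 1 29 = true := by decide +kernel
theorem c85 : mc4.chk (appT tabs t80 0xfff) 1 1 = true := by decide +kernel
theorem c86 : mc5.chk (appT tabs t80 0xfff) 1 26 = true := by decide +kernel
theorem c87 : mc6.chk (appT tabs t80 0xfff) 1 8 = true := by decide +kernel
theorem c88 : mc7.chk (appT tabs t80 0xfff) 1 1 = true := by decide +kernel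
theorem c89 : mc8.chk (appT tabs t80 0xfff) 1 1 = true := by decide +kernel
theorem c90 : okcb 276 12 (bases mc) = true := by decide +kernel
theorem c91 : headAll (appT tabs t80 0xfff) mc [] = true := by decide +kernel
theorem c92 : tc0.head tcR = true := by decide +kernel
theorem c93 : allL (fun a => tc0.chk a 0 tc0.N) tc0.S = true := by decide +kernel
theorem c94 : tc1.head tcR = true := by decide +kernel
theorem c95 : allL (fun a => tc1.chk a 0 tc1.N) tc1.S = true := by decide +kernel
theorem c96 : tc2.head tcR = true := by decide +kernel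
theorem c97 : allL (fun a => tc2.chk a 0 tc2.N) tc2.S = true := by decide +kernel
theorem c98 : tc3.head tcR = true := by decide +kernel
theorem c99 : allL (fun a => tc3.chk a 0 tc3.N) tc3.S = true := by decide +kernel
theorem c100 : tc4.head tcR = true := by decide +kernel
theorem c101 : allL (fun a => tc4.chk a 0 tc4.N) tc4.S = true := by decide +kernel
theorem c102 : tc5.head tcR = true := by decide +kernel
theorem c103 : allL (fun a => tc5.chk a 0 tc5.N) tc5.S = true := by decide +kernel
theorem c104 : tc6.head tcR = true := by decide +kernel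
theorem c105 : allL (fun a => tc6.chk a 0 tc6.N) tc6.S = true := by decide +kernel
theorem c106 : tc7.head tcR = true := by decide +kernel
theorem c107 : allL (fun a => tc7.chk a 0 tc7.N) tc7.S = true := by decide +kernel
theorem c108 : tc8.head tcR = true := by decide +kernel
theorem c109 : allL (fun a => tc8.chk a 0 tc8.N) tc8.S = true := by decide +kernel
theorem c110 : tcLink tc [] [48,49,50,51,52,53,54,55,56,57,58] = true := by decide +kernel
theorem c111 : oneAll 12 (appT tabs t80 0xfff) [48,48] 0 276 = true := by decide +kernel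
theorem c112 : oneAll 12 (appT tabs t80 0xfff) [49,50] 0 276 = true := by decide +kernel
theorem c113 : oneAll 12 (appT tabs t80 0xfff) [50,49] 0 276 = true := by decide +kernel
theorem c114 : oneAll 12 (appT tabs t80 0xfff) [49,49,48] 0 276 = true := by decide +kernel
theorem c115 : oneAll 12 (appT tabs t80 0xfff) [51,51] 0 276 = true := by decide +kernel
theorem c116 : oneAll 12 (appT tabs t80 0xfff) [51,48,51,48,51,48] 0 276 = true := by decide +kernel
theorem c117 : oneAll 12 (appT tabs t80 0xfff) [51,50,51,50,51,50,51,50] 0 276 = true := by decide +kernel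
theorem c118 : oneAll 12 (appT tabs t80 0xfff) [52,52] 0 276 = true := by decide +kernel
theorem c119 : oneAll 12 (appT tabs t80 0xfff) [52,48,52,48,52,48] 0 276 = true := by decide +kernel
theorem c120 : oneAll 12 (appT tabs t80 0xfff) [52,51,52,51,52,51] 0 276 = true := by decide +kernel
theorem c121 : oneAll 12 (appT tabs t80 0xfff) [52,50,52,50,52,50,52,50] 0 276 = true := by decide +kernel
theorem c122 : oneAll 12 (appT tabs t80 0xfff) [52,50,51,49,51,52,50,51,49,51] 0 276 = true := by decide +kernel
theorem c123 : oneAll 12 (appT tabs t80 0xfff) [52,49,52,51,50,52,49,52,51,50] 0 276 = true := by decide +kernel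
theorem c124 : oneAll 12 (appT tabs t80 0xfff) [53,54] 0 276 = true := by decide +kernel
theorem c125 : oneAll 12 (appT tabs t80 0xfff) [54,53] 0 276 = true := by decide +kernel
theorem c126 : oneAll 12 (appT tabs t80 0xfff) [53,53,51,50,51,49,52] 0 276 = true := by decide +kernel
theorem c127 : oneAll 12 (appT tabs t80 0xfff) [54,50,53,48,51,48,52,50] 0 276 = true := by decide +kernel
theorem c128 : oneAll 12 (appT tabs t80 0xfff) [50,53,50,52,51,53,51] 0 276 = true := by decide +kernel
theorem c129 : oneAll 12 (appT tabs t80 0xfff) [55,55] 0 276 = true := by decide +kernel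
theorem c130 : oneAll 12 (appT tabs t80 0xfff) [55,48,55,48] 0 276 = true := by decide +kernel
theorem c131 : oneAll 12 (appT tabs t80 0xfff) [55,52,55,52,55,52] 0 276 = true := by decide +kernel
theorem c132 : oneAll 12 (appT tabs t80 0xfff) [55,53,55,54,55,51,52,51] 0 276 = true := by decide +kernel
theorem c133 : oneAll 12 (appT tabs t80 0xfff) [55,50,55,50,55,49,55,50] 0 276 = true := by decide +kernel
theorem c134 : oneAll 12 (appT tabs t80 0xfff) [55,54,50,55,51,49,55,52,48] 0 276 = true := by decide +kernel
theorem c135 : oneAll 12 (appT tabs t80 0xfff) [53,48,55,53,52,54,55,53,51] 0 276 = true := by decide +kernel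
theorem c136 : oneAll 12 (appT tabs t80 0xfff) [55,52,48,54,49,55,48,51,49,52] 0 276 = true := by decide +kernel
theorem c137 : oneAll 12 (appT tabs t80 0xfff) [56,56] 0 276 = true := by decide +kernel
theorem c138 : oneAll 12 (appT tabs t80 0xfff) [56,52,56,52] 0 276 = true := by decide +kernel
theorem c139 : oneAll 12 (appT tabs t80 0xfff) [54,54,54,54] 0 276 = true := by decide +kernel
theorem c140 : oneAll 12 (appT tabs t80 0xfff) [56,55,56,55,56,55] 0 276 = true := by decide +kernel
theorem c141 : oneAll 12 (appT tabs t80 0xfff) [56,50,56,49,56,50,52,50,52] 0 276 = true := by decide +kernel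
theorem c142 : oneAll 12 (appT tabs t80 0xfff) [56,49,54,54,50,56,48,51,48] 0 276 = true := by decide +kernel
theorem c143 : oneAll 12 (appT tabs t80 0xfff) [56,48,52,56,48,56,48,52,48] 0 276 = true := by decide +kernel
theorem c144 : oneAll 12 (appT tabs t80 0xfff) [56,51,52,56,51,56,51,52,51] 0 276 = true := by decide +kernel
theorem c145 : oneAll 12 (appT tabs t80 0xfff) [56,48,55,56,55,48,56,48,55] 0 276 = true := by decide +kernel
theorem c146 : oneAll 12 (appT tabs t80 0xfff) [56,53,50,51,54,49,56,52,48,51,48] 0 276 = true := by decide +kernel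
theorem c147 : oneAll 12 (appT tabs t80 0xfff) [56,48,53,50,53,51,49,56,52,48,51,48] 0 276 = true := by decide +kernel
theorem c148 : oneAll 12 (appT tabs t80 0xfff) [51,56,53,55,49,55,54,56,48,56,49] 0 276 = true := by decide +kernel
theorem c149 : oneAll 12 (appT tabs t80 0xfff) [57,57] 0 276 = true := by decide +kernel
theorem c150 : oneAll 12 (appT tabs t80 0xfff) [57,50,52,57,50,52] 0 276 = true := by decide +kernel
theorem c151 : oneAll 12 (appT tabs t80 0xfff) [57,48,57,48,57,48] 0 276 = true := by decide +kernel
theorem c152 : oneAll 12 (appT tabs t80 0xfff) [57,56,57,56,57,56] 0 276 = true := by decide +kernel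
theorem c153 : oneAll 12 (appT tabs t80 0xfff) [57,48,56,48,56,57,52,48,56,48,52] 0 276 = true := by decide +kernel
theorem c154 : oneAll 12 (appT tabs t80 0xfff) [57,50,56,57,49,57,50,52,56,49,56] 0 276 = true := by decide +kernel
theorem c155 : oneAll 12 (appT tabs t80 0xfff) [51,57,54,56,51,56,53,57,51,48] 0 276 = true := by decide +kernel
theorem c156 : oneAll 12 (appT tabs t80 0xfff) [57,50,55,54,49,57,50,55,54,48,56,50] 0 276 = true := by decide +kernel
theorem c157 : oneAll 12 (appT tabs t80 0xfff) [48,57,54,56,51,56,53,57,48,51] 0 276 = true := by decide +kernel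
theorem c158 : oneAll 12 (appT tabs t80 0xfff) [58,58] 0 276 = true := by decide +kernel
theorem c159 : oneAll 12 (appT tabs t80 0xfff) [58,48,58,48] 0 276 = true := by decide +kernel
theorem c160 : oneAll 12 (appT tabs t80 0xfff) [58,55,50,55,58,55,50,55] 0 276 = true := by decide +kernel
theorem c161 : oneAll 12 (appT tabs t80 0xfff) [53,48,58,55,53,48,53,55,58,53] 0 276 = true := by decide +kernel
theorem c162 : oneAll 12 (appT tabs t80 0xfff) [52,54,54,58,55,53,52,58,55,48,53] 0 276 = true := by decide +kernel
theorem c163 : oneAll 12 (appT tabs t80 0xfff) [58,50,58,50,58,49,58,50] 0 276 = true := by decide +kernel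
theorem c164 : oneAll 12 (appT tabs t80 0xfff) [58,51,58,51,55,58,51,50,52,50,52,54] 0 276 = true := by decide +kernel
theorem c165 : oneAll 12 (appT tabs t80 0xfff) [58,50,55,51,55,49,58,50,52,49,51,52] 0 276 = true := by decide +kernel
theorem c166 : oneAll 12 (appT tabs t80 0xfff) [50,55,58,55,57,55,58,55,49,57] 0 276 = true := by decide +kernel
theorem c167 : oneAll 12 (appT tabs t80 0xfff) [58,50,58,53,48,52,58,49,58,51,50,51,48,52,50,55,53] 0 276 = true := by decide +kernel
theorem c168 : oneAll 12 (appT tabs t80 0xfff) [58,50,58,54,58,53,58,49,58,51,49,51,52,49,55,51,52] 0 276 = true := by decide +kernel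
theorem c169 : oneAll 12 (appT tabs t80 0xfff) [58,50,58,54,52,56,53,58,49,58,51,48,52,48,54,56,54,56,51] 0 276 = true := by decide +kernel
theorem c170 : oneAll 12 (appT tabs t80 0xfff) [58,56,57,49,51,56,58,49,58,52,50,52,49,55,52,56,48,52,51,50,57,53,57] 0 276 = true := by decide +kernel
theorem c171 : eqAll 12 (appT tabs t80 0xfff) [0] (nth inW [] 0) 0 276 = true := by decide +kernel
theorem c172 : eqAll 12 (appT tabs t80 0xfff) [1] (nth inW [] 1) 0 276 = true := by decide +kernel
theorem c173 : eqAll 12 (appT tabs t80 0xfff) [2] (nth inW [] 2) 0 276 = true := by decide +kernel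
theorem c174 : eqAll 12 (appT tabs t80 0xfff) [3] (nth inW [] 3) 0 276 = true := by decide +kernel

end Cfsg.Agent.CG.Co3
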