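import Cfsg.Agent.Lib.Grp.Co3.D0

set_option autoImplicit false
set_option maxRecDepth 100000
set_option Elab.async false

namespace Cfsg.Agent.CG.Co3

noncomputable def tabs : List ℕ := [t0,t1,t2,t3,t4,t5,t6,t7,t8,t9,t10,t11,t12,t13,t14,t15,t16,t17,t18,t19,t20,t21,t22,t23,t24,t25,t26,t27,t28,t29,t30,t31,t32,t33,t34,t35,t36,t37,t38,t39,t40,t41,t42,t43,t44,t45,t46,t47,t48,t49,t50,t51,t52,t53,t54,t55,t56,t57,t58,t59,t60,t61,t62,t63,t64,t65,t66,t67,t68,t69,t70,t71,t72,t73,t74,t75,t76,t77,t78,t79]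
noncomputable abbrev app : ℕ → ℕ → ℕ := appT tabs t80 0xfff
noncomputable def slpL : List (Bool × List ℕ) := [(false,[]),
  (false,[]),
  (false,[]),
  (false,[]),
  (false,[1,3,3,1,3]),
  (true,[4]),
  (false,[2]),
  (true,[6]),
  (false,[6,6]),
  (false,[4]),
  (true,[9]),
  (false,[1,2,2,6,6,1,2,4,2,8,3,5,3,0,7,7,3,3,0]),
  (false,[11,9,9,11,9,9,11]),
  (true,[12]),
  (false,[11,12,11,13,11,13,11]),
  (true,[14]),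
  (false,[11,13,13,15,11,14,9]),
  (true,[16]),
  (false,[11,9,16,11,16,14,11,14,16,13,15]),
  (true,[18]),
  (false,[15,13,11,12,16,16,14,13,13,9]),
  (true,[20]),
  (false,[13,10,10,17,15,17,14,11,16,9,11]),
  (true,[22]),
  (false,[18,21,21,22,10,10,16,10,17,17,9,16,13,11,15,15]),
  (true,[24]),
  (false,[19,22,20,19,16,13,15,13,11,9,9,12,11,16,13]),
  (true,[26]),
  (false,[15,17,14,12,9,17,10,11,17,12,12,16]),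
  (true,[28]),
  (false,[25,26,24,19,19,20,15,11,13,10,15,11,10,12,9,9,11]),
  (true,[30]),
  (false,[25,29,18,23,23,18,17,10,13,15,12,17,14,10,16,15,15]),
  (true,[32]),
  (false,[31,33,33,25,25,29,25,19,21,22,11,17,17,11,13,11,12,9,13,17]),
  (true,[34]),
  (false,[35,32,25,19,23,18,18,15,10,11,13,10,12,17,14,11]),
  (true,[36]),
  (false,[35,30,28,24,29,19,19,23,11,14,16,14,11,17,15,15,15,16,11]),
  (true,[38]),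
  (false,[35,31,32,27,28,28,18,22,20,10,17,14,14,11,16,10,10,12,16,16]),
  (false,[39,40,36,33,25,26,25,19,21,19,14,11,9,9,9,12,11,16,13,16]),
  (true,[41]),
  (false,[37,40,35,31,33,33,31,25,27,28,25,18,22,20,20,10,15,10,11,15,12,12,11,9,12,15]),
  (true,[43]),
  (false,[42,39,35,33,28,24,27,23,21,10,17,13,10,12,11,13,16,13,14,13,16]),
  (true,[45]),
  (false,[46,41,38,35,33,31,33,29,26,23,21,18,10,16,15,9,14,10,11,16,11,12,14,11]),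
  (false,[47]),
  (false,[45]),
  (true,[49]),
  (false,[42,43,45,47]),
  (false,[36,36]),
  (false,[34,38,36,36,42]),
  (true,[53]),
  (false,[30,30,33,34,36,36,43,41,45]),
  (false,[24,24,28,32,34,37,38,42,43]),
  (false,[18,18,23,20,26,29,24,31,32,36,41]),
  (false,[10,17,15,22,18,22,18,18,26,29,26,31,31,34,40,36,36,43,45]),
  (false,[26,26,26,24,30,32,30,39,37,41,45,47]),
  (false,[18,20,19,22,29,25,26,32,30,34,40,36,42,43]),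
  (false,[16,15,12,14,20,18,18,29,24,30,32,32,30,36,36,43,45,47]),
  (false,[17,15,9,22,22,21,27,24,27,24,31,33,30,34,38,40,41,45,47]),
  (false,[12,14,22,22,20,19,28,24,27,27,33,34,40,37,43,43,45]),
  (false,[10,17,10,22,18,18,20,27,29,29,26,30,32,32,30,34,40,43,45]),
  (true,[64]),
  (false,[9,17,15,21,19,29,29,26,32,31,31,37,44,47]),
  (true,[66]),
  (false,[23,21,22,18,28,25,26,30,33,30,34,36,40,36,44,42,45,47]),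
  (true,[68]),
  (false,[23,19,23,18,25,25,31,33,30,34,36,38,43,41,47]),
  (true,[70]),
  (false,[25,27,27,25,30,33,37,39,37,44]),
  (true,[72]),
  (false,[27,29,24,30,33,30,34,36,36,38,43,41]),
  (true,[74]),
  (false,[32,30,30,40,38,45,47]),
  (true,[76]),
  (false,[9,9,9,9,9]),
  (true,[78])]
noncomputable def slp (a : ℕ) : Bool × List ℕ := nth slpL (false, []) a
noncomputable def invL : List ℕ := [1,0,3,2,5,4,7,6,8,10,9,11,13,12,15,14,17,16,19,18,21,20,23,22,25,24,27,26,29,28,31,30,33,32,35,34,37,36,39,38,40,42,41,44,43,46,45,47,48,50,49,51,52,54,53,55,56,57,58,59,60,61,62,63,65,64,67,66,69,68,71,70,73,72,75,74,77,76,79,78]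
noncomputable def inv (a : ℕ) : ℕ := nth invL 80 a
noncomputable def bs : List ℕ := [12,912,2076,468,108,564,1932,348,492]
noncomputable def mc0 : Lvl := ⟨12, [9,10,11,12,13,14,15,16,17], 276,
  fun i => look 0xfff mc0c (Nat.mul 12 i), fun i => look 0xfff mc0p (Nat.mul 12 i),
  fun i => look 255 mc0l (Nat.mul 8 i), fun i => look 255 mc0i (Nat.mul 8 i), fun x => look 0xfff mc0q x, 4⟩
noncomputable def mc1 : Lvl := ⟨912, [18,19,20,21,22,23], 275,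
  fun i => look 0xfff mc1c (Nat.mul 12 i), fun i => look 0xfff mc1p (Nat.mul 12 i),
  fun i => look 255 mc1l (Nat.mul 8 i), fun i => look 255 mc1i (Nat.mul 8 i), fun x => look 0xfff mc1q x, 5⟩
noncomputable def mc2 : Lvl := ⟨2076, [24,25,26,27,28,29], 112,
  fun i => look 0xfff mc2c (Nat.mul 12 i), fun i => look 0xff mc2p (Nat.mul 8 i),
  fun i => look 255 mc2l (Nat.mul 8 i), fun i => look 255 mc2i (Nat.mul 8 i), fun x => look 0xfff mc2q x, 4⟩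
noncomputable def mc3 : Lvl := ⟨468, [30,31,32,33], 30,
  fun i => look 0xfff mc3c (Nat.mul 12 i), fun i => look 0xff mc3p (Nat.mul 8 i),
  fun i => look 255 mc3l (Nat.mul 8 i), fun i => look 255 mc3i (Nat.mul 8 i), fun x => look 0xfff mc3q x, 4⟩
noncomputable def mc4 : Lvl := ⟨108, [34,35], 2,
  fun i => look 0xfff mc4c (Nat.mul 12 i), fun i => look 0xf mc4p (Nat.mul 4 i),
  fun i => look 255 mc4l (Nat.mul 8 i), fun i => look 255 mc4i (Nat.mul 8 i), fun x => look 0xfff mc4q x, 1⟩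
noncomputable def mc5 : Lvl := ⟨564, [36,37,38,39,40], 27,
  fun i => look 0xfff mc5c (Nat.mul 12 i), fun i => look 0xff mc5p (Nat.mul 8 i),
  fun i => look 255 mc5l (Nat.mul 8 i), fun i => look 255 mc5i (Nat.mul 8 i), fun x => look 0xfff mc5q x, 3⟩
noncomputable def mc6 : Lvl := ⟨1932, [41,42,43,44], 9,
  fun i => look 0xfff mc6c (Nat.mul 12 i), fun i => look 0xf mc6p (Nat.mul 4 i),
  fun i => look 255 mc6l (Nat.mul 8 i), fun i => look 255 mc6i (Nat.mul 8 i), fun x => look 0xfff mc6q x, 2⟩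
noncomputable def mc7 : Lvl := ⟨348, [45,46], 2,
  fun i => look 0xfff mc7c (Nat.mul 12 i), fun i => look 0xf mc7p (Nat.mul 4 i),
  fun i => look 255 mc7l (Nat.mul 8 i), fun i => look 255 mc7i (Nat.mul 8 i), fun x => look 0xfff mc7q x, 1⟩
noncomputable def mc8 : Lvl := ⟨492, [47], 2,
  fun i => look 0xfff mc8c (Nat.mul 12 i), fun i => look 0xf mc8p (Nat.mul 4 i),
  fun i => look 255 mc8l (Nat.mul 8 i), fun i => look 255 mc8i (Nat.mul 8 i), fun x => look 0xfff mc8q x, 1⟩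
noncomputable def mc : List Lvl := [mc0, mc1, mc2, mc3, mc4, mc5, mc6, mc7, mc8]
noncomputable def tcR : List (List ℕ) := [[48,48],
  [49,50],
  [50,49],
  [49,49,48],
  [51,51],
  [51,48,51,48,51,48],
  [51,50,51,50,51,50,51,50],
  [52,52],
  [52,48,52,48,52,48],
  [52,51,52,51,52,51],
  [52,50,52,50,52,50,52,50],
  [52,50,51,49,51,52,50,51,49,51],
  [52,49,52,51,50,52,49,52,51,50],
  [53,54],
  [54,53],
  [53,53,51,50,51,49,52],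
  [54,50,53,48,51,48,52,50],
  [50,53,50,52,51,53,51],
  [55,55],
  [55,48,55,48],
  [55,52,55,52,55,52],
  [55,53,55,54,55,51,52,51],
  [55,50,55,50,55,49,55,50],
  [55,54,50,55,51,49,55,52,48],
  [53,48,55,53,52,54,55,53,51],
  [55,52,48,54,49,55,48,51,49,52],
  [56,56],
  [56,52,56,52],
  [54,54,54,54],
  [56,55,56,55,56,55],
  [56,50,56,49,56,50,52,50,52],
  [56,49,54,54,50,56,48,51,48],
  [56,48,52,56,48,56,48,52,48],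
  [56,51,52,56,51,56,51,52,51],
  [56,48,55,56,55,48,56,48,55],
  [56,53,50,51,54,49,56,52,48,51,48],
  [56,48,53,50,53,51,49,56,52,48,51,48],
  [51,56,53,55,49,55,54,56,48,56,49],
  [57,57],
  [57,50,52,57,50,52],
  [57,48,57,48,57,48],
  [57,56,57,56,57,56],
  [57,48,56,48,56,57,52,48,56,48,52],
  [57,50,56,57,49,57,50,52,56,49,56],
  [51,57,54,56,51,56,53,57,51,48],
  [57,50,55,54,49,57,50,55,54,48,56,50],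
  [48,57,54,56,51,56,53,57,48,51],
  [58,58],
  [58,48,58,48],
  [58,55,50,55,58,55,50,55],
  [53,48,58,55,53,48,53,55,58,53],
  [52,54,54,58,55,53,52,58,55,48,53],
  [58,50,58,50,58,49,58,50],
  [58,51,58,51,55,58,51,50,52,50,52,54],
  [58,50,55,51,55,49,58,50,52,49,51,52],
  [50,55,58,55,57,55,58,55,49,57],
  [58,50,58,53,48,52,58,49,58,51,50,51,48,52,50,55,53],
  [58,50,58,54,58,53,58,49,58,51,49,51,52,49,55,51,52],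
  [58,50,58,54,52,56,53,58,49,58,51,48,52,48,54,56,54,56,51],
  [58,56,57,49,51,56,58,49,58,52,50,52,49,55,52,56,48,52,51,50,57,53,57]]
noncomputable def tc0T : List ℕ := [0,0,0,0,0,0,0,0,0,0,0,0,0,0,0,0,0,0,0,0,0,0,0,0,0,0,0,0,0,0,0,0,0,0,0,0,0,0,0,0,0,0,0,0,0,0,0,0,tc0t48,tc0t49,tc0t50,tc0t51,tc0t52,tc0t53,tc0t54,tc0t55,tc0t56,tc0t57,tc0t58]
noncomputable def tc0r : Tr Rule := (.node (.node (.node (.node (.node (.node (.node (.node (.node (.leaf ⟨58,[58],47,1⟩) (.leaf ⟨58,[49,58,52,50,52,49,55,52,56,48,52,51,50,57,53,57,58,56,57,49,51,56],59,6⟩)) (.leaf ⟨52,[55,52,55,52,55],20,1⟩)) (.node (.leaf ⟨53,[51,50,53,50,52,51],17,5⟩) (.leaf ⟨48,[57,48,57,48,57],40,1⟩))) (.node (.node (.leaf ⟨50,[52,50,52,50,52,50,52],10,5⟩) (.leaf ⟨58,[55,57,55,58,55,49,57,50,55],55,2⟩)) (.node (.leaf ⟨58,[50,52,49,51,52,58,50,55,51,55,49],54,6⟩)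 (.leaf ⟨48,[53,55,58,53,53,48,58,55,53],50,5⟩)))) (.node (.node (.node (.leaf ⟨54,[54,54,54],28,3⟩) (.leaf ⟨56,[50,56,49,56,50,52,50,52],30,0⟩)) (.node (.leaf ⟨58,[51,50,52,50,52,54,58,51,58,51,55],53,5⟩) (.leaf ⟨49,[57,50,52,56,49,56,57,50,56,57],43,4⟩))) (.node (.node (.leaf ⟨54,[54,54,54],28,2⟩) (.leaf ⟨56,[48,52,48,56,48,52,56,48],32,5⟩)) (.node (.leaf ⟨56,[52,56,52],27,0⟩) (.leaf ⟨58,[54,58,53,58,49,58,51,49,51,52,49,55,51,52,58,50],57,2⟩))))) (.node (.node (.node (.node (.node (.leaf ⟨48,[48],0,1⟩) (.leaf ⟨56,[57,49,51,56,58,49,58,52,50,52,49,55,52,56,48,52,51,50,57,53,57,58],59,1⟩)) (.leaf ⟨48,[55,48,55],19,1⟩)) (.node (.leaf ⟨54,[55,51,52,51,55,53,55],21,3⟩) (.leaf ⟨50,[58,50,58,49,58,50,58],52,1⟩))) (.node (.node (.leaf ⟨51,[48,51,48,51,48],5,2⟩) (.leaf ⟨48,[56,49,54,54,50,56,48,51],31,8⟩)) (.node (.leaf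 ⟨48,[57,48,57,48,57],40,3⟩) (.leaf ⟨55,[58,53,53,48,58,55,53,48,53],50,7⟩)))) (.node (.node (.node (.leaf ⟨53,[53,48,58,55,53,48,53,55,58],50,9⟩) (.leaf ⟨56,[57,56,57,56,57],41,3⟩)) (.node (.leaf ⟨53,[55,54,55,51,52,51,55],21,1⟩) (.leaf ⟨54,[48,56,50,57,50,55,54,49,57,50,55],45,8⟩))) (.node (.node (.leaf ⟨50,[52,51,53,51,50,53],17,2⟩) (.leaf ⟨57,[56,57,56,57,56],41,0⟩)) (.node (.leaf ⟨57,[56,57,56,57,56],41,4⟩) (.leaf ⟨56,[51,58,50,58,54,52,56,53,58,49,58,51,48,52,48,54,56,54],58,17⟩)))))) (.node (.node (.node (.node (.node (.node (.leaf ⟨54,[53],13,1⟩) (.leaf ⟨57,[53,57,58,56,57,49,51,56,58,49,58,52,50,52,49,55,52,56,48,52,51,50],59,20⟩)) (.leaf ⟨52,[55,52,55,52,55],20,5⟩)) (.node (.leaf ⟨48,[51,48,52,50,54,50,53],16,3⟩) (.leaf ⟨50,[51,50,51,50,51,50,51],6,3⟩))) (.node (.node (.leaf ⟨51,[55,58,51,50,52,50,52,54,58,51,58],53,3⟩)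 (.leaf ⟨50,[52,57,50,52,57],39,1⟩)) (.node (.leaf ⟨52,[58,55,48,53,52,54,54,58,55,53],51,6⟩) (.leaf ⟨53,[55,58,53,53,48,58,55,53,48],50,6⟩)))) (.node (.node (.node (.leaf ⟨57,[48,57,48,57,48],40,4⟩) (.leaf ⟨51,[48,57,54,56,51,56,53,57,48],46,9⟩)) (.node (.leaf ⟨55,[50,55,58,55,50,55,58],49,1⟩) (.leaf ⟨51,[57,54,56,51,56,53,57,51,48],44,0⟩))) (.node (.node (.leaf ⟨48,[52,48,52,48,52],8,3⟩) (.leaf ⟨54,[49,55,48,51,49,52,55,52,48],25,3⟩)) (.node (.leaf ⟨50,[56,49,56,50,52,50,52,56],30,1⟩) (.leaf ⟨52,[50,52,50,52,50,52,50],10,6⟩))))) (.node (.node (.node (.node (.node (.leaf ⟨48,[49,49],3,2⟩) (.leaf ⟨55,[58,55,50,55,58,55,50],49,7⟩)) (.leaf ⟨56,[48,52,56,48,56,48,52,48],32,0⟩)) (.node (.leaf ⟨58,[55,53,48,53,55,58,53,53,48],50,2⟩) (.leaf ⟨55,[53,48,53,55,58,53,53,48,58],50,3⟩))) (.node (.node (.leaf ⟨55,[48,55,48],19,0⟩)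 (.leaf ⟨51,[56,51,52,56,51,56,51,52],33,8⟩)) (.node (.leaf ⟨55,[56,55,56,55,56],29,3⟩) (.leaf ⟨58,[49,58,51,49,51,52,49,55,51,52,58,50,58,54,58,53],57,6⟩)))) (.node (.node (.node (.leaf ⟨51,[48,56,49,54,54,50,56,48],31,7⟩) (.leaf ⟨53,[57,51,48,51,57,54,56,51,56],44,6⟩)) (.node (.leaf ⟨52,[54,55,53,51,53,48,55,53],24,4⟩) (.leaf ⟨52,[55,52,48,54,49,55,48,51,49],25,9⟩))) (.node (.node (.leaf ⟨55,[49,55,50,55,50,55,50],22,4⟩) (.leaf ⟨56,[51,56,53,57,48,51,48,57,54],46,3⟩)) (.node (.leaf ⟨55,[53,55,54,55,51,52,51],21,0⟩) (.leaf ⟨51,[56,58,49,58,52,50,52,49,55,52,56,48,52,51,50,57,53,57,58,56,57,49],59,4⟩))))))) (.node (.node (.node (.node (.node (.node (.node (.leaf ⟨51,[51],4,1⟩) (.leaf ⟨51,[50,57,53,57,58,56,57,49,51,56,58,49,58,52,50,52,49,55,52,56,48,52],59,18⟩)) (.leaf ⟨58,[55,50,55,58,55,50,55],49,0⟩)) (.node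 (.leaf ⟨51,[48,52,50,54,50,53,48],16,4⟩) (.leaf ⟨50,[52,50,52,50,52,50,52],10,3⟩))) (.node (.node (.leaf ⟨49,[58,50,58,50,58,50,58],52,5⟩) (.leaf ⟨57,[50,55,54,49,57,50,55,54,48,56,50],45,0⟩)) (.node (.leaf ⟨58,[51,58,51,55,58,51,50,52,50,52,54],53,0⟩) (.leaf ⟨55,[49,57,50,55,58,55,57,55,58],55,7⟩)))) (.node (.node (.node (.leaf ⟨51,[48,51,48,51,48],5,4⟩) (.leaf ⟨53,[48,58,55,53,48,53,55,58,53],50,0⟩)) (.node (.leaf ⟨55,[58,51,50,52,50,52,54,58,51,58,51],53,4⟩) (.leaf ⟨55,[58,55,49,57,50,55,58,55,57],55,5⟩))) (.node (.node (.leaf ⟨55,[51,52,51,55,53,55,54],21,4⟩) (.leaf ⟨48,[57,48,57,48,57],40,5⟩)) (.node (.leaf ⟨51,[52,51,52,51,52],9,1⟩) (.leaf ⟨52,[48,55,54,50,55,51,49,55],23,7⟩))))) (.node (.node (.node (.node (.node (.leaf ⟨53,[54],13,0⟩) (.leaf ⟨48,[52,51,50,57,53,57,58,56,57,49,51,56,58,49,58,52,50,52,49,55,52,56],59,16⟩))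 (.leaf ⟨56,[55,56,55,56,55],29,0⟩)) (.node (.leaf ⟨51,[50,51,49,52,53,53],15,2⟩) (.leaf ⟨55,[58,55,57,55,58,55,49,57,50],55,1⟩))) (.node (.node (.leaf ⟨53,[53,51,50,51,49,52],15,0⟩) (.leaf ⟨56,[51,56,51,52,51,56,51,52],33,3⟩)) (.node (.leaf ⟨56,[50,57,50,55,54,49,57,50,55,54,48],45,10⟩) (.leaf ⟨57,[54,56,51,56,53,57,48,51,48],46,1⟩)))) (.node (.node (.node (.leaf ⟨51,[50,51,50,51,50,51,50],6,2⟩) (.leaf ⟨56,[57,56,57,56,57],41,5⟩)) (.node (.leaf ⟨54,[50,55,51,49,55,52,48,55],23,1⟩) (.leaf ⟨50,[51,50,51,50,51,50,51],6,5⟩))) (.node (.node (.leaf ⟨52,[50,52,50,52,50,52,50],10,4⟩) (.leaf ⟨55,[50,55,49,55,50,55,50],22,2⟩)) (.node (.leaf ⟨56,[55,56,55,56,55],29,2⟩) (.leaf ⟨58,[50,58,54,52,56,53,58,49,58,51,48,52,48,54,56,54,56,51],58,0⟩)))))) (.node (.node (.node (.node (.node (.node (.leaf ⟨56,[56],26,1⟩) (.leaf ⟨58,[56,57,49,51,56,58,49,58,52,50,52,49,55,52,56,48,52,51,50,57,53,57],59,0⟩))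 (.leaf ⟨51,[52,56,51,56,51,52,51,56],33,1⟩)) (.node (.leaf ⟨48,[52,50,54,50,53,48,51],16,5⟩) (.leaf ⟨58,[55,49,57,50,55,58,55,57,55],55,6⟩))) (.node (.node (.leaf ⟨51,[55,49,58,50,52,49,51,52,58,50,55],54,3⟩) (.leaf ⟨55,[56,55,56,55,56],29,1⟩)) (.node (.leaf ⟨57,[55,58,55,49,57,50,55,58,55],55,4⟩) (.leaf ⟨50,[51,50,51,50,51,50,51],6,1⟩)))) (.node (.node (.node (.leaf ⟨49,[55,50,55,50,55,50,55],22,5⟩) (.leaf ⟨50,[57,50,55,54,49,57,50,55,54,48,56],45,11⟩)) (.node (.leaf ⟨50,[54,50,53,48,51,48,52],16,7⟩) (.leaf ⟨56,[48,52,57,48,56,48,56,57,52,48],42,8⟩))) (.node (.node (.leaf ⟨51,[53,51,50,53,50,52],17,4⟩) (.leaf ⟨54,[50,56,48,51,48,56,49,54],31,3⟩)) (.node (.leaf ⟨56,[49,54,54,50,56,48,51,48],31,0⟩) (.leaf ⟨58,[50,58,49,58,50,58,50],52,2⟩))))) (.node (.node (.node (.node (.leaf ⟨48,[55,48,55],19,3⟩) (.leaf ⟨49,[56,50,52,50,52,56,50,56],30,3⟩))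 (.node (.leaf ⟨48,[51,48,51,48,51],5,3⟩) (.leaf ⟨55,[58,55,50,55,58,55,50],49,3⟩))) (.node (.node (.leaf ⟨55,[52,55,52,55,52],20,4⟩) (.leaf ⟨57,[50,52,57,50,52],39,0⟩)) (.node (.leaf ⟨58,[48,58,48],48,0⟩) (.leaf ⟨54,[58,53,58,49,58,51,49,51,52,49,55,51,52,58,50,58],57,3⟩)))) (.node (.node (.node (.leaf ⟨54,[54,54,54],28,1⟩) (.leaf ⟨57,[48,56,48,56,57,52,48,56,48,52],42,0⟩)) (.node (.leaf ⟨58,[49,58,50,58,50,58,50],52,4⟩) (.leaf ⟨53,[48,53,55,58,53,53,48,58,55],50,4⟩))) (.node (.node (.leaf ⟨52,[53,53,51,50,51,49],15,6⟩) (.leaf ⟨55,[56,55,56,55,56],29,5⟩)) (.node (.leaf ⟨50,[52,57,50,52,57],39,4⟩) (.leaf ⟨58,[52,50,52,49,55,52,56,48,52,51,50,57,53,57,58,56,57,49,51,56,58,49],59,8⟩)))))))) (.node (.node (.node (.node (.node (.node (.node (.node (.leaf ⟨50,[49],1,1⟩) (.leaf ⟨53,[57,58,56,57,49,51,56,58,49,58,52,50,52,49,55,52,56,48,52,51,50,57],59,21⟩))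 (.leaf ⟨50,[55,49,55,50,55,50,55],22,3⟩)) (.node (.leaf ⟨48,[51,48,51,48,51],5,5⟩) (.leaf ⟨48,[51,48,51,48,51],5,1⟩))) (.node (.node (.leaf ⟨53,[51,53,48,55,53,52,54,55],24,7⟩) (.leaf ⟨56,[57,52,48,56,48,52,57,48,56,48],42,4⟩)) (.node (.leaf ⟨58,[51,55,58,51,50,52,50,52,54,58,51],53,2⟩) (.leaf ⟨57,[48,51,48,57,54,56,51,56,53],46,7⟩)))) (.node (.node (.node (.leaf ⟨48,[58,48,58],48,3⟩) (.leaf ⟨56,[51,52,56,51,56,51,52,51],33,0⟩)) (.node (.leaf ⟨51,[58,51,55,58,51,50,52,50,52,54,58],53,1⟩) (.leaf ⟨57,[49,57,50,52,56,49,56,57,50,56],43,3⟩))) (.node (.node (.leaf ⟨52,[51,53,51,50,53,50],17,3⟩) (.leaf ⟨52,[48,56,48,52,56,48,56,48],32,7⟩)) (.node (.leaf ⟨56,[55,56,55,56,55],29,4⟩) (.leaf ⟨52,[51,55,53,55,54,55,51],21,6⟩))))) (.node (.node (.node (.node (.node (.leaf ⟨49,[50],1,0⟩) (.leaf ⟨49,[51,56,58,49,58,52,50,52,49,55,52,56,48,52,51,50,57,53,57,58,56,57],59,3⟩))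 (.leaf ⟨48,[52,48,52,48,52],8,5⟩)) (.node (.leaf ⟨49,[52,53,53,51,50,51],15,5⟩) (.leaf ⟨56,[51,56,53,57,51,48,51,57,54],44,3⟩))) (.node (.node (.leaf ⟨51,[52,51,52,51,52],9,3⟩) (.leaf ⟨48,[52,48,56,48,52,56,48,56],32,6⟩)) (.node (.leaf ⟨57,[50,55,58,55,57,55,58,55,49],55,9⟩) (.leaf ⟨48,[58,48,58],48,1⟩)))) (.node (.node (.node (.leaf ⟨51,[49,52,53,53,51,50],15,4⟩) (.leaf ⟨57,[48,57,48,57,48],40,2⟩)) (.node (.leaf ⟨58,[55,50,55,58,55,50,55],49,4⟩) (.leaf ⟨56,[53,55,49,55,54,56,48,56,49,51],37,1⟩))) (.node (.node (.leaf ⟨50,[53,48,51,48,52,50,54],16,1⟩) (.leaf ⟨51,[56,51,52,51,56,51,52,56],33,4⟩)) (.node (.leaf ⟨52,[51,52,51,52,51],9,2⟩) (.leaf ⟨54,[56,51,58,50,58,54,52,56,53,58,49,58,51,48,52,48,54,56],58,16⟩)))))) (.node (.node (.node (.node (.node (.node (.leaf ⟨55,[55],18,1⟩) (.leaf ⟨56,[58,49,58,52,50,52,49,55,52,56,48,52,51,50,57,53,57,58,56,57,49,51],59,5⟩))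 (.leaf ⟨48,[52,56,48,56,48,52,48,56],32,1⟩)) (.node (.leaf ⟨51,[48,51,48,51,48],5,0⟩) (.leaf ⟨55,[54,55,51,52,51,55,53],21,2⟩))) (.node (.node (.leaf ⟨49,[51,52,58,50,55,51,55,49,58,50,52],54,9⟩) (.leaf ⟨52,[57,50,52,57,50],39,2⟩)) (.node (.leaf ⟨55,[52,55,52,55,52],20,0⟩) (.leaf ⟨51,[48,51,57,54,56,51,56,53,57],44,8⟩)))) (.node (.node (.node (.leaf ⟨50,[55,58,55,50,55,58,55],49,6⟩) (.leaf ⟨48,[56,48,52,57,48,56,48,56,57,52],42,7⟩)) (.node (.leaf ⟨52,[55,52,55,52,55],20,3⟩) (.leaf ⟨51,[50,52,49,52,51,50,52,49,52],12,8⟩))) (.node (.node (.leaf ⟨55,[52,55,52,55,52],20,2⟩) (.leaf ⟨55,[54,50,55,51,49,55,52,48],23,0⟩)) (.node (.leaf ⟨52,[51,56,51,52,56,51,56,51],33,7⟩) (.leaf ⟨58,[50,58,50,58,49,58,50],52,0⟩))))) (.node (.node (.node (.node (.leaf ⟨49,[49,48],3,0⟩) (.leaf ⟨56,[50,52,50,52,56,50,56,49],30,4⟩)) (.node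 (.leaf ⟨50,[58,50,58,50,58,49,58],52,7⟩) (.leaf ⟨51,[55,53,55,54,55,51,52],21,7⟩))) (.node (.node (.leaf ⟨52,[48,52,48,52,48],8,2⟩) (.leaf ⟨57,[51,48,51,57,54,56,51,56,53],44,7⟩)) (.node (.leaf ⟨48,[51,48,56,49,54,54,50,56],31,6⟩) (.leaf ⟨58,[53,58,49,58,51,49,51,52,49,55,51,52,58,50,58,54],57,4⟩)))) (.node (.node (.node (.leaf ⟨53,[52,58,55,48,53,52,54,54,58,55],51,5⟩) (.leaf ⟨51,[56,53,55,49,55,54,56,48,56,49],37,0⟩)) (.node (.leaf ⟨58,[50,58,50,58,50,58,49],52,6⟩) (.leaf ⟨48,[51,49,52,55,52,48,54,49,55],25,6⟩))) (.node (.node (.leaf ⟨54,[50,53,48,51,48,52,50],16,0⟩) (.leaf ⟨54,[56,51,56,53,57,48,51,48,57],46,2⟩)) (.node (.leaf ⟨51,[52,51,52,51,52],9,5⟩) (.leaf ⟨57,[58,56,57,49,51,56,58,49,58,52,50,52,49,55,52,56,48,52,51,50,57,53],59,22⟩))))))) (.node (.node (.node (.node (.node (.node (.node (.leaf ⟨52,[52],7,1⟩)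 (.leaf ⟨52,[50,52,49,55,52,56,48,52,51,50,57,53,57,58,56,57,49,51,56,58,49,58],59,9⟩)) (.leaf ⟨55,[50,55,58,55,50,55,58],49,5⟩)) (.node (.leaf ⟨53,[50,52,51,53,51,50],17,1⟩) (.leaf ⟨48,[52,48,52,48,52],8,1⟩))) (.node (.node (.leaf ⟨50,[58,49,58,50,58,50,58],52,3⟩) (.leaf ⟨56,[57,50,56,57,49,57,50,52,56,49],43,10⟩)) (.node (.leaf ⟨50,[55,58,55,50,55,58,55],49,2⟩) (.leaf ⟨51,[49,55,52,48,55,54,50,55],23,4⟩)))) (.node (.node (.node (.leaf ⟨52,[48,52,48,52,48],8,4⟩) (.leaf ⟨52,[50,52,56,50,56,49,56,50],30,6⟩)) (.node (.leaf ⟨51,[52,51,55,53,55,54,55],21,5⟩) (.leaf ⟨50,[55,58,55,57,55,58,55,49,57],55,0⟩))) (.node (.node (.leaf ⟨55,[48,55,48],19,2⟩) (.leaf ⟨57,[48,57,48,57,48],40,0⟩)) (.node (.leaf ⟨56,[48,51,48,56,49,54,54,50],31,5⟩) (.leaf ⟨51,[53,48,55,53,52,54,55,53],24,8⟩))))) (.node (.node (.node (.node (.node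 (.leaf ⟨49,[48,49],3,1⟩) (.leaf ⟨56,[57,56,57,56,57],41,1⟩)) (.leaf ⟨56,[49,56,50,52,50,52,56,50],30,2⟩)) (.node (.leaf ⟨52,[51,52,51,52,51],9,0⟩) (.leaf ⟨50,[51,50,51,50,51,50,51],6,7⟩))) (.node (.node (.leaf ⟨48,[55,54,50,55,51,49,55,52],23,8⟩) (.leaf ⟨56,[51,52,51,56,51,52,56,51],33,5⟩)) (.node (.leaf ⟨56,[52,56,52],27,2⟩) (.leaf ⟨48,[52,58,49,58,51,50,51,48,52,50,55,53,58,50,58,53],56,4⟩)))) (.node (.node (.node (.leaf ⟨53,[51,50,51,49,52,53],15,1⟩) (.leaf ⟨57,[56,57,56,57,56],41,2⟩)) (.node (.leaf ⟨58,[53,53,48,58,55,53,48,53,55],50,8⟩) (.leaf ⟨55,[52,48,55,54,50,55,51,49],23,6⟩))) (.node (.node (.leaf ⟨55,[50,55,50,55,50,55,49],22,6⟩) (.leaf ⟨56,[55,48,56,48,55,56,48,55],34,3⟩)) (.node (.leaf ⟨52,[50,52,50,52,50,52,50],10,2⟩) (.leaf ⟨58,[49,58,51,48,52,48,54,56,54,56,51,58,50,58,54,52,56,53],58,7⟩))))))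 (.node (.node (.node (.node (.node (.node (.leaf ⟨57,[57],38,1⟩) (.leaf ⟨57,[49,51,56,58,49,58,52,50,52,49,55,52,56,48,52,51,50,57,53,57,58,56],59,2⟩)) (.leaf ⟨56,[48,55,56,48,55,56,55,48],34,6⟩)) (.node (.leaf ⟨58,[48,58,48],48,2⟩) (.leaf ⟨53,[52,54,55,53,51,53,48,55],24,3⟩))) (.node (.node (.leaf ⟨52,[57,50,52,57,50],39,5⟩) (.leaf ⟨54,[54,50,56,48,51,48,56,49],31,2⟩)) (.node (.leaf ⟨57,[50,52,57,50,52],39,3⟩) (.leaf ⟨51,[50,51,50,51,50,51,50],6,0⟩)))) (.node (.node (.node (.leaf ⟨50,[55,50,55,50,55,49,55],22,7⟩) (.leaf ⟨57,[54,56,51,56,53,57,51,48,51],44,1⟩)) (.node (.leaf ⟨55,[50,55,50,55,49,55,50],22,0⟩) (.leaf ⟨55,[54,49,57,50,55,54,48,56,50,57,50],45,2⟩))) (.node (.node (.leaf ⟨50,[53,50,52,51,53,51],17,0⟩) (.leaf ⟨55,[51,49,55,52,48,55,54,50],23,3⟩)) (.node (.leaf ⟨52,[56,52,56],27,1⟩) (.leaf ⟨56,[53,58,49,58,51,48,52,48,54,56,54,56,51,58,50,58,54,52],58,5⟩)))))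 (.node (.node (.node (.node (.leaf ⟨52,[56,52,56],27,3⟩) (.leaf ⟨48,[56,48,52,48,56,48,52,56],32,4⟩)) (.node (.leaf ⟨55,[48,51,49,52,55,52,48,54,49],25,5⟩) (.leaf ⟨48,[57,54,56,51,56,53,57,48,51],46,0⟩))) (.node (.node (.leaf ⟨53,[48,51,48,52,50,54,50],16,2⟩) (.leaf ⟨50,[51,49,52,53,53,51],15,3⟩)) (.node (.leaf ⟨52,[48,52,48,52,48],8,0⟩) (.leaf ⟨53,[58,49,58,51,49,51,52,49,55,51,52,58,50,58,54,58],57,5⟩)))) (.node (.node (.node (.leaf ⟨52,[50,54,50,53,48,51,48],16,6⟩) (.leaf ⟨50,[56,57,49,57,50,52,56,49,56,57],43,1⟩)) (.node (.leaf ⟨58,[55,48,53,52,54,54,58,55,53,52],51,7⟩) (.leaf ⟨55,[52,48,54,49,55,48,51,49,52],25,0⟩))) (.node (.node (.leaf ⟨51,[50,53,50,52,51,53],17,6⟩) (.leaf ⟨52,[51,52,51,52,51],9,4⟩)) (.node (.leaf ⟨50,[52,50,52,50,52,50,52],10,7⟩) (.leaf ⟨56,[48,52,51,50,57,53,57,58,56,57,49,51,56,58,49,58,52,50,52,49,55,52],59,15⟩)))))))))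
noncomputable def tc0 : TCL := ⟨[48,49,50,51,52,53,54,55,56,57,58], [48,49,50,51,52,53,54,55,56,57], 276, 32, 0x3fff, 14, 0x1ff,
  fun a x => look 0xffffffff (nth tc0T 0 a) x, fun x => look 0xffffffff tc0d x, tc0r⟩
noncomputable def tc1T : List ℕ := [0,0,0,0,0,0,0,0,0,0,0,0,0,0,0,0,0,0,0,0,0,0,0,0,0,0,0,0,0,0,0,0,0,0,0,0,0,0,0,0,0,0,0,0,0,0,0,0,tc1t48,tc1t49,tc1t50,tc1t51,tc1t52,tc1t53,tc1t54,tc1t55,tc1t56,tc1t57]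
noncomputable def tc1r : Tr Rule := (.node (.node (.node (.node (.node (.node (.node (.node (.leaf ⟨57,[57],38,1⟩) (.leaf ⟨54,[50,55,51,49,55,52,48,55],23,1⟩)) (.leaf ⟨52,[50,52,50,52,50,52,50],10,6⟩)) (.node (.node (.leaf ⟨55,[56,55,56,55,56],29,3⟩) (.leaf ⟨56,[48,55,56,55,48,56,48,55],34,0⟩)) (.leaf ⟨52,[50,52,56,50,56,49,56,50],30,6⟩))) (.node (.node (.node (.leaf ⟨51,[48,51,48,51,48],5,4⟩) (.leaf ⟨57,[56,57,56,57,56],41,0⟩)) (.leaf ⟨56,[49,54,54,50,56,48,51,48],31,0⟩)) (.node (.node (.leaf ⟨53,[51,50,51,49,52,53],15,1⟩) (.leaf ⟨55,[53,51,53,48,55,53,52,54],24,6⟩)) (.leaf ⟨55,[48,55,48],19,2⟩)))) (.node (.node (.node (.node (.leaf ⟨56,[56],26,1⟩) (.leaf ⟨52,[55,52,55,52,55],20,5⟩)) (.leaf ⟨52,[48,52,48,52,48],8,0⟩)) (.node (.node (.leaf ⟨57,[49,57,50,52,56,49,56,57,50,56],43,3⟩) (.leaf ⟨48,[57,54,56,51,56,53,57,48,51],46,0⟩))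 (.leaf ⟨52,[56,52,56],27,1⟩))) (.node (.node (.node (.leaf ⟨56,[49,56,50,52,50,52,56,50],30,2⟩) (.leaf ⟨57,[56,57,56,57,56],41,2⟩)) (.leaf ⟨51,[49,52,55,52,48,54,49,55,48],25,7⟩)) (.node (.leaf ⟨50,[53,50,52,51,53,51],17,0⟩) (.leaf ⟨52,[55,52,55,52,55],20,3⟩))))) (.node (.node (.node (.node (.node (.leaf ⟨51,[51],4,1⟩) (.leaf ⟨55,[48,56,48,55,56,48,55,56],34,4⟩)) (.leaf ⟨54,[50,53,48,51,48,52,50],16,0⟩)) (.node (.node (.leaf ⟨52,[48,56,48,52,56,48,56,48],32,7⟩) (.leaf ⟨57,[50,52,56,49,56,57,50,56,57,49],43,5⟩)) (.leaf ⟨51,[48,51,48,51,48],5,2⟩))) (.node (.node (.node (.leaf ⟨51,[52,51,52,51,52],9,3⟩) (.leaf ⟨52,[55,52,55,52,55],20,1⟩)) (.leaf ⟨57,[50,52,57,50,52],39,0⟩)) (.node (.node (.leaf ⟨48,[51,48,51,48,51],5,5⟩) (.leaf ⟨51,[48,52,50,54,50,53,48],16,4⟩)) (.leaf ⟨55,[52,55,52,55,52],20,2⟩)))) (.node (.node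 (.node (.node (.leaf ⟨48,[49,49],3,2⟩) (.leaf ⟨51,[52,51,55,53,55,54,55],21,5⟩)) (.leaf ⟨51,[52,51,52,51,52],9,1⟩)) (.node (.node (.leaf ⟨52,[57,50,52,57,50],39,2⟩) (.leaf ⟨50,[56,49,56,50,52,50,52,56],30,1⟩)) (.leaf ⟨57,[48,56,48,56,57,52,48,56,48,52],42,0⟩))) (.node (.node (.node (.leaf ⟨56,[57,56,57,56,57],41,3⟩) (.leaf ⟨55,[48,55,48],19,0⟩)) (.leaf ⟨51,[52,51,52,51,52],9,5⟩)) (.node (.leaf ⟨54,[54,54,54],28,1⟩) (.leaf ⟨52,[51,55,53,55,54,55,51],21,6⟩)))))) (.node (.node (.node (.node (.node (.node (.leaf ⟨50,[49],1,1⟩) (.leaf ⟨55,[53,52,54,55,53,51,53,48],24,2⟩)) (.leaf ⟨48,[51,48,52,50,54,50,53],16,3⟩)) (.node (.node (.leaf ⟨56,[50,52,50,52,56,50,56,49],30,4⟩) (.leaf ⟨56,[57,49,57,50,52,56,49,56,57,50],43,2⟩)) (.leaf ⟨52,[51,53,51,50,53,50],17,3⟩))) (.node (.node (.node (.leaf ⟨50,[52,57,50,52,57],39,4⟩)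 (.leaf ⟨55,[56,55,56,55,56],29,5⟩)) (.leaf ⟨56,[48,51,48,56,49,54,54,50],31,5⟩)) (.node (.node (.leaf ⟨51,[50,52,49,52,51,50,52,49,52],12,8⟩) (.leaf ⟨53,[52,54,55,53,51,53,48,55],24,3⟩)) (.leaf ⟨55,[54,48,56,50,57,50,55,54,49,57,50],45,7⟩)))) (.node (.node (.node (.node (.leaf ⟨49,[48,49],3,1⟩) (.leaf ⟨55,[52,55,52,55,52],20,0⟩)) (.leaf ⟨52,[51,52,51,52,51],9,2⟩)) (.node (.node (.leaf ⟨57,[50,56,57,49,57,50,52,56,49,56],43,0⟩) (.leaf ⟨50,[52,49,52,51,50,52,49,52,51],12,9⟩)) (.leaf ⟨56,[48,56,48,52,48,56,48,52],32,3⟩))) (.node (.node (.node (.leaf ⟨57,[50,52,57,50,52],39,3⟩) (.leaf ⟨55,[49,55,50,55,50,55,50],22,4⟩)) (.leaf ⟨56,[51,56,51,52,51,56,51,52],33,3⟩)) (.node (.leaf ⟨52,[48,52,48,52,48],8,2⟩) (.leaf ⟨55,[51,52,51,55,53,55,54],21,4⟩))))) (.node (.node (.node (.node (.node (.leaf ⟨53,[54],13,0⟩) (.leaf ⟨50,[52,50,52,50,52,50,52],10,1⟩))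 (.leaf ⟨50,[52,51,53,51,50,53],17,2⟩)) (.node (.node (.leaf ⟨51,[50,53,50,52,51,53],17,6⟩) (.leaf ⟨51,[48,57,54,56,51,56,53,57,48],46,9⟩)) (.leaf ⟨57,[48,57,48,57,48],40,0⟩))) (.node (.node (.node (.leaf ⟨52,[50,52,50,52,50,52,50],10,4⟩) (.leaf ⟨48,[57,48,57,48,57],40,1⟩)) (.leaf ⟨56,[51,52,51,56,51,52,56,51],33,5⟩)) (.node (.leaf ⟨52,[51,52,51,52,51],9,4⟩) (.leaf ⟨55,[50,55,49,55,50,55,50],22,2⟩)))) (.node (.node (.node (.node (.leaf ⟨54,[54,54,54],28,3⟩) (.leaf ⟨56,[55,56,55,56,55],29,2⟩)) (.leaf ⟨51,[50,51,50,51,50,51,50],6,6⟩)) (.node (.node (.leaf ⟨50,[51,50,51,50,51,50,51],6,3⟩) (.leaf ⟨51,[57,54,56,51,56,53,57,51,48],44,0⟩)) (.leaf ⟨50,[55,50,55,49,55,50,55],22,1⟩))) (.node (.node (.node (.leaf ⟨48,[56,57,52,48,56,48,52,57,48,56],42,3⟩) (.leaf ⟨57,[48,57,48,57,48],40,2⟩)) (.leaf ⟨51,[56,51,52,51,56,51,52,56],33,4⟩))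 (.node (.leaf ⟨52,[50,54,50,53,48,51,48],16,6⟩) (.leaf ⟨49,[55,52,48,55,54,50,55,51],23,5⟩))))))) (.node (.node (.node (.node (.node (.node (.node (.leaf ⟨48,[48],0,1⟩) (.leaf ⟨54,[55,53,51,53,48,55,53,52],24,5⟩)) (.leaf ⟨52,[48,52,48,52,48],8,4⟩)) (.node (.node (.leaf ⟨48,[57,48,57,48,57],40,5⟩) (.leaf ⟨53,[57,51,48,51,57,54,56,51,56],44,6⟩)) (.leaf ⟨48,[51,48,51,48,51],5,3⟩))) (.node (.node (.node (.leaf ⟨52,[57,50,52,57,50],39,5⟩) (.leaf ⟨55,[56,55,56,55,56],29,1⟩)) (.leaf ⟨52,[54,55,53,51,53,48,55,53],24,4⟩)) (.node (.node (.leaf ⟨50,[53,48,51,48,52,50,54],16,1⟩) (.leaf ⟨54,[48,56,50,57,50,55,54,49,57,50,55],45,8⟩)) (.leaf ⟨55,[52,55,52,55,52],20,4⟩)))) (.node (.node (.node (.node (.leaf ⟨52,[52],7,1⟩) (.leaf ⟨56,[57,56,57,56,57],41,5⟩)) (.leaf ⟨48,[51,48,51,48,51],5,1⟩)) (.node (.node (.leaf ⟨49,[57,50,52,56,49,56,57,50,56,57],43,4⟩)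 (.leaf ⟨56,[57,56,57,56,57],41,1⟩)) (.leaf ⟨56,[48,52,56,48,56,48,52,48],32,0⟩))) (.node (.node (.node (.leaf ⟨57,[48,57,48,57,48],40,4⟩) (.leaf ⟨56,[55,56,55,56,55],29,0⟩)) (.leaf ⟨56,[51,52,56,51,56,51,52,51],33,0⟩)) (.node (.leaf ⟨50,[54,50,53,48,51,48,52],16,7⟩) (.leaf ⟨56,[55,56,55,56,55],29,4⟩))))) (.node (.node (.node (.node (.node (.leaf ⟨54,[53],13,1⟩) (.leaf ⟨55,[56,55,48,56,48,55,56,48],34,2⟩)) (.leaf ⟨49,[52,53,53,51,50,51],15,5⟩)) (.node (.node (.leaf ⟨56,[52,56,52],27,0⟩) (.leaf ⟨50,[57,50,55,54,49,57,50,55,54,48,56],45,11⟩)) (.leaf ⟨51,[48,51,57,54,56,51,56,53,57],44,8⟩))) (.node (.node (.node (.leaf ⟨53,[48,51,48,52,50,54,50],16,2⟩) (.leaf ⟨56,[48,52,48,56,48,52,56,48],32,5⟩)) (.leaf ⟨51,[56,53,57,51,48,51,57,54,56],44,4⟩)) (.node (.node (.leaf ⟨50,[51,49,52,53,53,51],15,3⟩) (.leaf ⟨53,[57,48,51,48,57,54,56,51,56],46,6⟩))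 (.leaf ⟨55,[53,55,54,55,51,52,51],21,0⟩)))) (.node (.node (.node (.node (.leaf ⟨49,[49,48],3,0⟩) (.leaf ⟨51,[49,52,53,53,51,50],15,4⟩)) (.leaf ⟨53,[50,52,51,53,51,50],17,1⟩)) (.node (.node (.leaf ⟨48,[51,57,54,56,51,56,53,57,51],44,9⟩) (.leaf ⟨51,[48,56,49,54,54,50,56,48],31,7⟩)) (.leaf ⟨49,[55,54,56,48,56,49,51,56,53,55],37,4⟩))) (.node (.node (.node (.leaf ⟨56,[48,52,57,48,56,48,56,57,52,48],42,8⟩) (.leaf ⟨51,[50,51,50,51,50,51,50],6,4⟩)) (.leaf ⟨49,[56,50,52,50,52,56,50,56],30,3⟩)) (.node (.leaf ⟨51,[53,51,50,53,50,52],17,4⟩) (.leaf ⟨53,[55,54,55,51,52,51,55],21,1⟩)))))) (.node (.node (.node (.node (.node (.node (.leaf ⟨49,[50],1,0⟩) (.leaf ⟨55,[48,51,49,52,55,52,48,54,49],25,5⟩)) (.leaf ⟨51,[48,51,48,51,48],5,0⟩)) (.node (.node (.leaf ⟨56,[50,56,49,56,50,52,50,52],30,0⟩) (.leaf ⟨55,[54,49,57,50,55,54,48,56,50,57,50],45,2⟩))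 (.leaf ⟨48,[52,48,52,48,52],8,1⟩))) (.node (.node (.node (.leaf ⟨48,[52,48,52,48,52],8,3⟩) (.leaf ⟨50,[52,57,50,52,57],39,1⟩)) (.leaf ⟨52,[49,52,51,50,52,49,52,51,50],12,5⟩)) (.node (.node (.leaf ⟨54,[50,56,48,51,48,56,49,54],31,3⟩) (.leaf ⟨55,[52,48,54,49,55,48,51,49,52],25,0⟩)) (.leaf ⟨48,[55,48,55],19,1⟩)))) (.node (.node (.node (.node (.leaf ⟨48,[55,48,55],19,3⟩) (.leaf ⟨55,[54,55,51,52,51,55,53],21,2⟩)) (.leaf ⟨54,[54,54,54],28,2⟩)) (.node (.node (.leaf ⟨50,[56,57,49,57,50,52,56,49,56,57],43,1⟩) (.leaf ⟨51,[52,50,51,49,51,52,50,51,49],11,9⟩)) (.leaf ⟨48,[52,48,52,48,52],8,5⟩))) (.node (.node (.node (.leaf ⟨57,[56,57,56,57,56],41,4⟩) (.leaf ⟨51,[55,53,55,54,55,51,52],21,7⟩)) (.leaf ⟨54,[56,51,56,53,57,51,48,51,57],44,2⟩)) (.node (.leaf ⟨53,[53,51,50,51,49,52],15,0⟩) (.leaf ⟨54,[55,51,52,51,55,53,55],21,3⟩)))))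 (.node (.node (.node (.node (.node (.leaf ⟨55,[55],18,1⟩) (.leaf ⟨50,[55,49,55,50,55,50,55],22,3⟩)) (.leaf ⟨48,[52,50,54,50,53,48,51],16,5⟩)) (.node (.node (.leaf ⟨50,[52,56,49,56,57,50,56,57,49,57],43,6⟩) (.leaf ⟨48,[51,48,57,54,56,51,56,53,57],46,8⟩)) (.leaf ⟨57,[54,56,51,56,53,57,51,48,51],44,1⟩))) (.node (.node (.node (.leaf ⟨51,[50,51,49,52,53,53],15,2⟩) (.leaf ⟨51,[49,55,52,48,55,54,50,55],23,4⟩)) (.leaf ⟨54,[54,50,56,48,51,48,56,49],31,2⟩)) (.node (.leaf ⟨50,[51,50,51,50,51,50,51],6,5⟩) (.leaf ⟨55,[50,55,50,55,50,55,49],22,6⟩)))) (.node (.node (.node (.node (.leaf ⟨52,[56,52,56],27,3⟩) (.leaf ⟨48,[57,48,57,48,57],40,3⟩)) (.leaf ⟨52,[51,52,51,52,51],9,0⟩)) (.node (.node (.leaf ⟨52,[53,53,51,50,51,49],15,6⟩) (.leaf ⟨50,[53,51,49,56,52,48,51,48,56,48,53],36,3⟩)) (.leaf ⟨55,[54,56,48,56,49,51,56,53,55,49],37,5⟩)))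 (.node (.node (.node (.leaf ⟨56,[52,56,52],27,2⟩) (.leaf ⟨50,[52,50,52,50,52,50,52],10,7⟩)) (.leaf ⟨48,[56,48,52,48,56,48,52,56],32,4⟩)) (.node (.leaf ⟨53,[51,50,53,50,52,51],17,5⟩) (.leaf ⟨52,[48,55,54,50,55,51,49,55],23,7⟩))))))))
noncomputable def tc1 : TCL := ⟨[48,49,50,51,52,53,54,55,56,57], [48,49,50,51,52,53,54,55,56], 275, 32, 0x3fff, 14, 0xff,
  fun a x => look 0xffffffff (nth tc1T 0 a) x, fun x => look 0xffffffff tc1d x, tc1r⟩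
noncomputable def tc2T : List ℕ := [0,0,0,0,0,0,0,0,0,0,0,0,0,0,0,0,0,0,0,0,0,0,0,0,0,0,0,0,0,0,0,0,0,0,0,0,0,0,0,0,0,0,0,0,0,0,0,0,tc2t48,tc2t49,tc2t50,tc2t51,tc2t52,tc2t53,tc2t54,tc2t55,tc2t56]
noncomputable def tc2r : Tr Rule := (.node (.node (.node (.node (.node (.node (.node (.leaf ⟨56,[56],26,1⟩) (.leaf ⟨53,[51,49,56,52,48,51,48,56,48,53,50],36,4⟩)) (.node (.leaf ⟨49,[52,53,53,51,50,51],15,5⟩) (.leaf ⟨50,[51,49,52,53,53,51],15,3⟩))) (.node (.node (.leaf ⟨55,[52,55,52,55,52],20,4⟩) (.leaf ⟨54,[54,54,54],28,1⟩)) (.node (.leaf ⟨52,[50,54,50,53,48,51,48],16,6⟩) (.leaf ⟨49,[56,50,52,50,52,56,50,56],30,3⟩)))) (.node (.node (.node (.leaf ⟨52,[52],7,1⟩) (.leaf ⟨55,[50,55,49,55,50,55,50],22,2⟩)) (.node (.leaf ⟨56,[51,56,51,52,51,56,51,52],33,3⟩) (.leaf ⟨56,[55,56,55,56,55],29,2⟩))) (.node (.node (.leaf ⟨56,[52,56,52],27,0⟩)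 (.leaf ⟨55,[52,55,52,55,52],20,2⟩)) (.node (.leaf ⟨52,[51,50,52,49,52,51,50,52,49],12,2⟩) (.leaf ⟨48,[51,48,56,49,54,54,50,56],31,6⟩))))) (.node (.node (.node (.node (.leaf ⟨51,[51],4,1⟩) (.leaf ⟨49,[55,54,56,48,56,49,51,56,53,55],37,4⟩)) (.node (.leaf ⟨56,[48,52,48,56,48,52,56,48],32,5⟩) (.leaf ⟨50,[55,49,55,50,55,50,55],22,3⟩))) (.node (.node (.leaf ⟨56,[52,56,52],27,2⟩) (.leaf ⟨48,[52,48,52,48,52],8,1⟩)) (.node (.leaf ⟨56,[48,51,48,56,49,54,54,50],31,5⟩) (.leaf ⟨48,[51,48,51,48,51],5,5⟩)))) (.node (.node (.node (.leaf ⟨49,[49,48],3,0⟩) (.leaf ⟨52,[51,52,51,52,51],9,2⟩)) (.node (.leaf ⟨52,[55,52,55,52,55],20,3⟩) (.leaf ⟨55,[52,55,52,55,52],20,0⟩))) (.node (.node (.leaf ⟨52,[51,52,51,52,51],9,4⟩) (.leaf ⟨50,[51,50,51,50,51,50,51],6,1⟩)) (.node (.leaf ⟨48,[55,56,55,48,56,48,55,56],34,1⟩) (.leaf ⟨56,[48,52,56,48,56,48,52,48],32,0⟩))))))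 (.node (.node (.node (.node (.node (.leaf ⟨50,[49],1,1⟩) (.leaf ⟨53,[53,51,50,51,49,52],15,0⟩)) (.node (.leaf ⟨48,[51,48,52,50,54,50,53],16,3⟩) (.leaf ⟨54,[54,54,54],28,2⟩))) (.node (.node (.leaf ⟨51,[50,51,49,52,53,53],15,2⟩) (.leaf ⟨54,[50,53,48,51,48,52,50],16,0⟩)) (.node (.leaf ⟨55,[49,55,50,55,50,55,50],22,4⟩) (.leaf ⟨52,[55,52,55,52,55],20,1⟩)))) (.node (.node (.node (.leaf ⟨48,[55,48,55],19,3⟩) (.leaf ⟨51,[50,51,50,51,50,51,50],6,4⟩)) (.node (.leaf ⟨56,[48,55,56,48,55,56,55,48],34,6⟩) (.leaf ⟨51,[50,51,50,51,50,51,50],6,2⟩))) (.node (.node (.leaf ⟨54,[50,56,48,51,48,56,49,54],31,3⟩) (.leaf ⟨52,[51,52,51,52,51],9,0⟩)) (.node (.leaf ⟨54,[50,55,51,49,55,52,48,55],23,1⟩) (.leaf ⟨48,[54,49,55,48,51,49,52,55,52],25,2⟩))))) (.node (.node (.node (.node (.leaf ⟨53,[54],13,0⟩) (.leaf ⟨53,[55,49,55,54,56,48,56,49,51,56],37,2⟩))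 (.node (.leaf ⟨48,[56,48,52,48,56,48,52,56],32,4⟩) (.leaf ⟨51,[48,52,50,54,50,53,48],16,4⟩))) (.node (.node (.leaf ⟨56,[49,56,50,52,50,52,56,50],30,2⟩) (.leaf ⟨51,[48,51,48,51,48],5,2⟩)) (.node (.leaf ⟨55,[56,55,56,55,56],29,3⟩) (.leaf ⟨48,[52,48,52,48,52],8,5⟩)))) (.node (.node (.node (.leaf ⟨48,[52,48,52,48,52],8,3⟩) (.leaf ⟨53,[51,50,51,49,52,53],15,1⟩)) (.node (.leaf ⟨48,[51,49,52,55,52,48,54,49,55],25,6⟩) (.leaf ⟨56,[55,56,55,56,55],29,0⟩))) (.node (.node (.leaf ⟨50,[51,50,51,50,51,50,51],6,3⟩) (.leaf ⟨54,[55,51,52,51,55,53,55],21,3⟩)) (.leaf ⟨53,[50,52,51,53,51,50],17,1⟩)))))) (.node (.node (.node (.node (.node (.node (.leaf ⟨48,[48],0,1⟩) (.leaf ⟨53,[50,53,51,49,56,52,48,51,48,56,48],36,2⟩)) (.node (.leaf ⟨51,[50,53,50,52,51,53],17,6⟩) (.leaf ⟨55,[48,55,48],19,0⟩))) (.node (.node (.leaf ⟨54,[54,54,54],28,3⟩)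 (.leaf ⟨51,[49,52,53,53,51,50],15,4⟩)) (.node (.leaf ⟨55,[56,55,56,55,56],29,5⟩) (.leaf ⟨48,[55,56,48,55,56,55,48,56],34,7⟩)))) (.node (.node (.node (.leaf ⟨49,[48,49],3,1⟩) (.leaf ⟨52,[51,53,51,50,53,50],17,3⟩)) (.node (.leaf ⟨51,[56,51,52,51,56,51,52,56],33,4⟩) (.leaf ⟨52,[56,52,56],27,1⟩))) (.node (.node (.leaf ⟨51,[48,56,49,54,54,50,56,48],31,7⟩) (.leaf ⟨50,[54,50,53,48,51,48,52],16,7⟩)) (.node (.leaf ⟨49,[55,52,48,55,54,50,55,51],23,5⟩) (.leaf ⟨55,[51,49,55,52,48,55,54,50],23,3⟩))))) (.node (.node (.node (.node (.leaf ⟨54,[53],13,1⟩) (.leaf ⟨49,[51,56,53,55,49,55,54,56,48,56],37,10⟩)) (.node (.leaf ⟨56,[48,56,48,52,48,56,48,52],32,3⟩) (.leaf ⟨49,[55,50,55,50,55,50,55],22,5⟩))) (.node (.node (.leaf ⟨50,[52,50,52,56,50,56,49,56],30,5⟩) (.leaf ⟨50,[52,50,52,50,52,50,52],10,7⟩)) (.node (.leaf ⟨55,[52,48,54,49,55,48,51,49,52],25,0⟩)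 (.leaf ⟨51,[52,51,52,51,52],9,5⟩)))) (.node (.node (.node (.leaf ⟨52,[56,52,56],27,3⟩) (.leaf ⟨51,[52,51,52,51,52],9,1⟩)) (.node (.leaf ⟨55,[54,55,51,52,51,55,53],21,2⟩) (.leaf ⟨50,[53,50,52,51,53,51],17,0⟩))) (.node (.node (.leaf ⟨52,[48,52,48,52,48],8,4⟩) (.leaf ⟨51,[53,51,50,53,50,52],17,4⟩)) (.leaf ⟨51,[54,49,56,52,48,51,48,56,53,50],35,3⟩))))) (.node (.node (.node (.node (.node (.leaf ⟨49,[50],1,0⟩) (.leaf ⟨48,[55,48,55],19,1⟩)) (.node (.leaf ⟨51,[48,51,48,51,48],5,0⟩) (.leaf ⟨55,[53,55,54,55,51,52,51],21,0⟩))) (.node (.node (.leaf ⟨56,[55,56,55,56,55],29,4⟩) (.leaf ⟨52,[53,53,51,50,51,49],15,6⟩)) (.node (.leaf ⟨55,[50,55,50,55,50,55,49],22,6⟩) (.leaf ⟨56,[49,54,54,50,56,48,51,48],31,0⟩)))) (.node (.node (.node (.leaf ⟨48,[49,49],3,2⟩) (.leaf ⟨52,[50,52,50,52,50,52,50],10,6⟩)) (.node (.leaf ⟨55,[56,48,55,56,55,48,56,48],34,8⟩)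 (.leaf ⟨51,[49,52,55,52,48,54,49,55,48],25,7⟩))) (.node (.node (.leaf ⟨48,[51,48,51,48,51],5,3⟩) (.leaf ⟨53,[55,54,55,51,52,51,55],21,1⟩)) (.node (.leaf ⟨48,[56,48,55,56,48,55,56,55],34,5⟩) (.leaf ⟨55,[51,52,51,55,53,55,54],21,4⟩))))) (.node (.node (.node (.node (.leaf ⟨55,[55],18,1⟩) (.leaf ⟨51,[48,51,48,51,48],5,4⟩)) (.node (.leaf ⟨56,[51,52,51,56,51,52,56,51],33,5⟩) (.leaf ⟨52,[51,55,53,55,54,55,51],21,6⟩))) (.node (.node (.leaf ⟨52,[56,50,56,49,56,50,52,50],30,8⟩) (.leaf ⟨51,[55,53,55,54,55,51,52],21,7⟩)) (.node (.leaf ⟨51,[52,56,51,56,51,52,51,56],33,1⟩) (.leaf ⟨52,[48,56,48,52,56,48,56,48],32,7⟩)))) (.node (.node (.node (.leaf ⟨51,[52,51,52,51,52],9,3⟩) (.leaf ⟨53,[51,50,53,50,52,51],17,5⟩)) (.node (.leaf ⟨55,[48,55,48],19,2⟩) (.leaf ⟨50,[56,49,56,50,52,50,52,56],30,1⟩))) (.node (.node (.leaf ⟨50,[53,48,51,48,52,50,54],16,1⟩)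 (.leaf ⟨52,[48,52,48,52,48],8,2⟩)) (.leaf ⟨53,[48,51,48,52,50,54,50],16,2⟩)))))))
noncomputable def tc2 : TCL := ⟨[48,49,50,51,52,53,54,55,56], [48,49,50,51,52,53,54,55], 112, 28, 0xfff, 12, 0x7f,
  fun a x => look 0xfffffff (nth tc2T 0 a) x, fun x => look 0xfffffff tc2d x, tc2r⟩
noncomputable def tc3T : List ℕ := [0,0,0,0,0,0,0,0,0,0,0,0,0,0,0,0,0,0,0,0,0,0,0,0,0,0,0,0,0,0,0,0,0,0,0,0,0,0,0,0,0,0,0,0,0,0,0,0,tc3t48,tc3t49,tc3t50,tc3t51,tc3t52,tc3t53,tc3t54,tc3t55]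
noncomputable def tc3r : Tr Rule := (.node (.node (.node (.node (.node (.node (.leaf ⟨55,[55],18,1⟩) (.leaf ⟨51,[52,51,52,51,52],9,5⟩)) (.node (.leaf ⟨49,[55,50,55,50,55,50,55],22,5⟩) (.leaf ⟨53,[48,51,48,52,50,54,50],16,2⟩))) (.node (.node (.leaf ⟨49,[49,48],3,0⟩) (.leaf ⟨48,[52,48,52,48,52],8,1⟩)) (.node (.leaf ⟨50,[52,51,53,51,50,53],17,2⟩) (.leaf ⟨52,[55,52,55,52,55],20,5⟩)))) (.node (.node (.node (.leaf ⟨54,[53],13,1⟩) (.leaf ⟨55,[50,55,50,55,50,55,49],22,6⟩)) (.node (.leaf ⟨53,[51,50,51,49,52,53],15,1⟩) (.leaf ⟨51,[50,51,49,52,53,53],15,2⟩))) (.node (.node (.leaf ⟨48,[49,49],3,2⟩) (.leaf ⟨51,[53,51,50,53,50,52],17,4⟩)) (.leaf ⟨53,[50,52,51,53,51,50],17,1⟩)))) (.node (.node (.node (.node (.leaf ⟨51,[51],4,1⟩) (.leaf ⟨55,[53,55,54,55,51,52,51],21,0⟩)) (.node (.leaf ⟨49,[55,52,48,55,54,50,55,51],23,5⟩) (.leaf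 ⟨48,[55,48,55],19,1⟩))) (.node (.node (.leaf ⟨52,[53,53,51,50,51,49],15,6⟩) (.leaf ⟨50,[52,50,52,50,52,50,52],10,3⟩)) (.node (.leaf ⟨55,[48,55,48],19,2⟩) (.leaf ⟨50,[54,50,53,48,51,48,52],16,7⟩)))) (.node (.node (.node (.leaf ⟨48,[48],0,1⟩) (.leaf ⟨50,[52,49,52,51,50,52,49,52,51],12,4⟩)) (.node (.leaf ⟨51,[53,48,55,53,52,54,55,53],24,8⟩) (.leaf ⟨48,[51,48,51,48,51],5,1⟩))) (.node (.node (.leaf ⟨55,[52,55,52,55,52],20,4⟩) (.leaf ⟨52,[51,52,51,52,51],9,2⟩)) (.leaf ⟨48,[52,50,54,50,53,48,51],16,5⟩))))) (.node (.node (.node (.node (.node (.leaf ⟨50,[49],1,1⟩) (.leaf ⟨53,[51,50,53,50,52,51],17,5⟩)) (.node (.leaf ⟨50,[55,49,55,50,55,50,55],22,3⟩) (.leaf ⟨55,[51,52,51,55,53,55,54],21,4⟩))) (.node (.node (.leaf ⟨49,[48,49],3,1⟩) (.leaf ⟨54,[50,53,48,51,48,52,50],16,0⟩)) (.node (.leaf ⟨48,[54,49,55,48,51,49,52,55,52],25,2⟩)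 (.leaf ⟨54,[55,51,52,51,55,53,55],21,3⟩)))) (.node (.node (.node (.leaf ⟨53,[54],13,0⟩) (.leaf ⟨49,[55,48,51,49,52,55,52,48,54],25,4⟩)) (.node (.leaf ⟨52,[54,55,53,51,53,48,55,53],24,4⟩) (.leaf ⟨49,[52,53,53,51,50,51],15,5⟩))) (.node (.node (.leaf ⟨51,[48,51,48,51,48],5,4⟩) (.leaf ⟨52,[55,52,55,52,55],20,3⟩)) (.leaf ⟨52,[50,54,50,53,48,51,48],16,6⟩)))) (.node (.node (.node (.node (.leaf ⟨52,[52],7,1⟩) (.leaf ⟨53,[53,51,50,51,49,52],15,0⟩)) (.node (.leaf ⟨55,[51,49,55,52,48,55,54,50],23,3⟩) (.leaf ⟨51,[48,51,48,51,48],5,2⟩))) (.node (.node (.leaf ⟨48,[55,48,55],19,3⟩) (.leaf ⟨50,[53,48,51,48,52,50,54],16,1⟩)) (.node (.leaf ⟨52,[48,52,48,52,48],8,2⟩) (.leaf ⟨51,[50,53,50,52,51,53],17,6⟩)))) (.node (.node (.node (.leaf ⟨49,[50],1,0⟩) (.leaf ⟨52,[50,52,50,52,50,52,50],10,6⟩)) (.node (.leaf ⟨51,[52,51,52,51,52],9,3⟩)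 (.leaf ⟨55,[52,55,52,55,52],20,2⟩))) (.node (.node (.leaf ⟨55,[54,55,51,52,51,55,53],21,2⟩) (.leaf ⟨48,[52,48,52,48,52],8,3⟩)) (.leaf ⟨52,[48,52,48,52,48],8,0⟩))))))
noncomputable def tc3 : TCL := ⟨[48,49,50,51,52,53,54,55], [48,49,50,51,52,53,54], 30, 24, 0x3ff, 10, 0x3f,
  fun a x => look 0xffffff (nth tc3T 0 a) x, fun x => look 0xffffff tc3d x, tc3r⟩
noncomputable def tc4T : List ℕ := [0,0,0,0,0,0,0,0,0,0,0,0,0,0,0,0,0,0,0,0,0,0,0,0,0,0,0,0,0,0,0,0,0,0,0,0,0,0,0,0,0,0,0,0,0,0,0,0,tc4t48,tc4t49,tc4t50,tc4t51,tc4t52,tc4t53,tc4t54]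
noncomputable def tc4r : Tr Rule := (.node (.node (.node (.leaf ⟨54,[53],13,1⟩) (.leaf ⟨48,[49,49],3,2⟩)) (.node (.leaf ⟨50,[53,48,51,48,52,50,54],16,1⟩) (.leaf ⟨52,[53,53,51,50,51,49],15,6⟩))) (.node (.node (.leaf ⟨53,[53,51,50,51,49,52],15,0⟩) (.leaf ⟨51,[50,53,50,52,51,53],17,6⟩)) (.leaf ⟨49,[50],1,0⟩)))
noncomputable def tc4 : TCL := ⟨[48,49,50,51,52,53,54], [48,49,50,51,52], 2, 16, 0x3f, 6, 0xf,
  fun a x => look 0xffff (nth tc4T 0 a) x, fun x => look 0xffff tc4d x, tc4r⟩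
noncomputable def tc5T : List ℕ := [0,0,0,0,0,0,0,0,0,0,0,0,0,0,0,0,0,0,0,0,0,0,0,0,0,0,0,0,0,0,0,0,0,0,0,0,0,0,0,0,0,0,0,0,0,0,0,0,tc5t48,tc5t49,tc5t50,tc5t51,tc5t52]
noncomputable def tc5r : Tr Rule := (.node (.node (.node (.node (.node (.leaf ⟨52,[52],7,1⟩) (.leaf ⟨50,[51,50,51,50,51,50,51],6,5⟩)) (.node (.leaf ⟨51,[48,51,48,51,48],5,4⟩) (.leaf ⟨48,[51,48,51,48,51],5,5⟩))) (.node (.node (.leaf ⟨51,[51],4,1⟩) (.leaf ⟨52,[49,52,51,50,52,49,52,51,50],12,5⟩)) (.leaf ⟨48,[52,48,52,48,52],8,3⟩))) (.node (.node (.node (.leaf ⟨50,[49],1,1⟩) (.leaf ⟨49,[52,51,50,52,49,52,51,50,52],12,6⟩)) (.leaf ⟨52,[51,52,51,52,51],9,4⟩)) (.node (.node (.leaf ⟨48,[49,49],3,2⟩) (.leaf ⟨51,[50,51,50,51,50,51,50],6,4⟩)) (.leaf ⟨52,[48,52,48,52,48],8,0⟩)))) (.node (.node (.node (.node (.leaf ⟨48,[48],0,1⟩) (.leaf ⟨51,[48,51,48,51,48],5,0⟩))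 (.leaf ⟨52,[48,52,48,52,48],8,4⟩)) (.node (.node (.leaf ⟨49,[48,49],3,1⟩) (.leaf ⟨48,[52,48,52,48,52],8,5⟩)) (.leaf ⟨50,[52,50,52,50,52,50,52],10,5⟩))) (.node (.node (.node (.leaf ⟨49,[50],1,0⟩) (.leaf ⟨51,[50,52,49,52,51,50,52,49,52],12,3⟩)) (.leaf ⟨51,[52,51,52,51,52],9,3⟩)) (.node (.node (.leaf ⟨49,[49,48],3,0⟩) (.leaf ⟨51,[52,51,52,51,52],9,5⟩)) (.leaf ⟨49,[51,52,50,51,49,51,52,50,51],11,8⟩)))))
noncomputable def tc5 : TCL := ⟨[48,49,50,51,52], [48,49,50,51], 27, 20, 0x3ff, 10, 0x1f,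
  fun a x => look 0xfffff (nth tc5T 0 a) x, fun x => look 0xfffff tc5d x, tc5r⟩
noncomputable def tc6T : List ℕ := [0,0,0,0,0,0,0,0,0,0,0,0,0,0,0,0,0,0,0,0,0,0,0,0,0,0,0,0,0,0,0,0,0,0,0,0,0,0,0,0,0,0,0,0,0,0,0,0,tc6t48,tc6t49,tc6t50,tc6t51]
noncomputable def tc6r : Tr Rule := (.node (.node (.node (.node (.leaf ⟨51,[51],4,1⟩) (.leaf ⟨50,[51,50,51,50,51,50,51],6,5⟩)) (.leaf ⟨49,[48,49],3,1⟩)) (.node (.leaf ⟨50,[49],1,1⟩) (.leaf ⟨49,[49,48],3,0⟩))) (.node (.node (.node (.leaf ⟨48,[48],0,1⟩) (.leaf ⟨51,[48,51,48,51,48],5,0⟩)) (.leaf ⟨48,[49,49],3,2⟩)) (.node (.leaf ⟨49,[50],1,0⟩) (.leaf ⟨51,[48,51,48,51,48],5,4⟩))))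
noncomputable def tc6 : TCL := ⟨[48,49,50,51], [48,49,50], 9, 16, 0xff, 8, 0xf,
  fun a x => look 0xffff (nth tc6T 0 a) x, fun x => look 0xffff tc6d x, tc6r⟩
noncomputable def tc7T : List ℕ := [0,0,0,0,0,0,0,0,0,0,0,0,0,0,0,0,0,0,0,0,0,0,0,0,0,0,0,0,0,0,0,0,0,0,0,0,0,0,0,0,0,0,0,0,0,0,0,0,tc7t48,tc7t49,tc7t50]
noncomputable def tc7r : Tr Rule := (.node (.node (.leaf ⟨50,[49],1,1⟩) (.leaf ⟨48,[49,49],3,2⟩)) (.leaf ⟨49,[49,48],3,0⟩))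
noncomputable def tc7 : TCL := ⟨[48,49,50], [48], 2, 16, 0x3f, 6, 0x7,
  fun a x => look 0xffff (nth tc7T 0 a) x, fun x => look 0xffff tc7d x, tc7r⟩
noncomputable def tc8T : List ℕ := [0,0,0,0,0,0,0,0,0,0,0,0,0,0,0,0,0,0,0,0,0,0,0,0,0,0,0,0,0,0,0,0,0,0,0,0,0,0,0,0,0,0,0,0,0,0,0,0,tc8t48]
noncomputable def tc8r : Tr Rule := (.leaf ⟨48,[48],0,1⟩)
noncomputable def tc8 : TCL := ⟨[48], [], 2, 16, 0x3f, 6, 0x3,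
  fun a x => look 0xffff (nth tc8T 0 a) x, fun x => look 0xffff tc8d x, tc8r⟩
noncomputable def tc : List TCL := [tc0, tc1, tc2, tc3, tc4, tc5, tc6, tc7, tc8]
noncomputable def inW : List (List ℕ) := [[57,56,51,58,55,50,56,57,56,49,54,56,52,53,55,51,48,52,48,51,49,48],
  [52,51,49,58,50,51,50,57,55,53,56,50,51,49,55,53,52,51,49,52,48,51,49,48],
  [54,58,53,58,57,48,54,56,57,50,55,56,50,54,55,51,52,49,52,48,51,49,48],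
  [52,58,53,58,51,57,56,51,57,52,48,56,51,49,51,49]]
noncomputable def tcS : List ℕ := [48,49,50,51,52,53,54,55,56,57,58]

end Cfsg.Agent.CG.Co3
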