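import Cfsg.Agent.Lib.Grp.Co3.C0

set_option autoImplicit false
set_option maxRecDepth 100000
set_option Elab.async false

namespace Cfsg.Agent.CG.Co3

theorem tabOK : TabOK 276 12 app 4 80 inv slp where
  w_pos := by decide
  base := allRange_of_allL (l := [0,1,2,3]) (by decide +kernel) (allL_cons (allLt_of_allRange c0) (allL_cons (allLt_of_allRange c1) (allL_cons (allLt_of_allRange c2) (allL_cons (allLt_of_allRange c3) (allL_nil _)))))
  defs := allRange_of_allL (l := [4,5,6,7,8,9,10,11,12,13,14,15,16,17,18,19,20,21,22,23,24,25,26,27,28,29,30,31,32,33,34,35,36,37,38,39,40,41,42,43,44,45,46,47,48,49,50,51,52,53,54,55,56,57,58,59,60,61,62,63,64,65,66,67,68,69,70,71,72,73,74,75,76,77,78,79]) (by decide +kernel) (allL_cons c4 (allL_cons c5 (allL_cons c6 (allL_cons c7 (allL_cons c8 (allL_cons c9 (allL_cons c10 (allL_cons c11 (allL_cons c12 (allL_cons c13 (allL_cons c14 (allL_cons c15 (allL_cons c16 (allL_cons c17 (allL_cons c18 (allL_cons c19 (allL_cons c20 (allL_cons c21 (allL_cons c22 (allL_cons c23 (allL_cons c24 (allL_cons c25 (allL_cons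 c26 (allL_cons c27 (allL_cons c28 (allL_cons c29 (allL_cons c30 (allL_cons c31 (allL_cons c32 (allL_cons c33 (allL_cons c34 (allL_cons c35 (allL_cons c36 (allL_cons c37 (allL_cons c38 (allL_cons c39 (allL_cons c40 (allL_cons c41 (allL_cons c42 (allL_cons c43 (allL_cons c44 (allL_cons c45 (allL_cons c46 (allL_cons c47 (allL_cons c48 (allL_cons c49 (allL_cons c50 (allL_cons c51 (allL_cons c52 (allL_cons c53 (allL_cons c54 (allL_cons c55 (allL_cons c56 (allL_cons c57 (allL_cons c58 (allL_cons c59 (allL_cons c60 (allL_cons c61 (allL_cons c62 (allL_cons c63 (allL_cons c64 (allL_cons c65 (allL_cons c66 (allL_cons c67 (allL_cons c68 (allL_cons c69 (allL_cons c70 (allL_cons c71 (allL_cons c72 (allL_cons c73 (allL_cons c74 (allL_cons c75 (allL_cons c76 (allL_cons c77 (allL_cons c78 (allL_cons c79 (allL_nil _)))))))))))))))))))))))))))))))))))))))))))))))))))))))))))))))))))))))))))))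
  lt := by decide +kernel
  triv := appT_triv (by decide +kernel)
  trivk := c80

/-- The group generated by the basic tables. -/
noncomputable abbrev PG : Subgroup (Equiv.Perm (Fin 276)) := tabGroup 276 12 app 4

noncomputable def act : Act PG (Fin 276) := tabOK.act

theorem chain : ChainOK act mc [] :=
  chainOK_of_chk act mc [] (by simp) (okc_of_okcb c90) c91
  (allL_cons c81 (allL_cons c82 (allL_cons c83 (allL_cons c84 (allL_cons c85 (allL_cons c86 (allL_cons c87 (allL_cons c88 (allL_cons c89 (allL_nil _))))))))))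

theorem bounds : Bounds tcR tcS 495766656000 :=
  (show prodTC tc = 495766656000 by decide +kernel) ▸ bounds_of_chain c110
  (allL_cons c92 (allL_cons c94 (allL_cons c96 (allL_cons c98 (allL_cons c100 (allL_cons c102 (allL_cons c104 (allL_cons c106 (allL_cons c108 (allL_nil _))))))))))
  (allL_cons c93 (allL_cons c95 (allL_cons c97 (allL_cons c99 (allL_cons c101 (allL_cons c103 (allL_cons c105 (allL_cons c107 (allL_cons c109 (allL_nil _))))))))))

theorem rels : ∀ v ∈ tcR, ev act.gen v = 1 :=
  tabOK.rels (allL_cons c111 (allL_cons c112 (allL_cons c113 (allL_cons c114 (allL_cons c115 (allL_cons c116 (allL_cons c117 (allL_cons c118 (allL_cons c119 (allL_cons c120 (allL_cons c121 (allL_cons c122 (allL_cons c123 (allL_cons c124 (allL_cons c125 (allL_cons c126 (allL_cons c127 (allL_cons c128 (allL_cons c129 (allL_cons c130 (allL_cons c131 (allL_cons c132 (allL_cons c133 (allL_cons c134 (allL_cons c135 (allL_cons c136 (allL_cons c137 (allL_cons c138 (allL_cons c139 (allL_cons c140 (allL_cons c141 (allL_cons c142 (allL_cons c143 (allL_cons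 c144 (allL_cons c145 (allL_cons c146 (allL_cons c147 (allL_cons c148 (allL_cons c149 (allL_cons c150 (allL_cons c151 (allL_cons c152 (allL_cons c153 (allL_cons c154 (allL_cons c155 (allL_cons c156 (allL_cons c157 (allL_cons c158 (allL_cons c159 (allL_cons c160 (allL_cons c161 (allL_cons c162 (allL_cons c163 (allL_cons c164 (allL_cons c165 (allL_cons c166 (allL_cons c167 (allL_cons c168 (allL_cons c169 (allL_cons c170 (allL_nil _)))))))))))))))))))))))))))))))))))))))))))))))))))))))))))))

theorem clS : cl act.gen tcS = ⊤ :=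
  tabOK.cl_eq_top_of_words (Ws := inW) (by decide +kernel) (allRange_of_allL (l := [0,1,2,3]) (by decide +kernel) (allL_cons c171 (allL_cons c172 (allL_cons c173 (allL_cons c174 (allL_nil _))))))

theorem prod_mc : prodN mc = 495766656000 := by decide +kernel

theorem card_le : Nat.card PG ≤ prodN mc := prod_mc ▸ (bounds.card_le rels clS).2

theorem card : Nat.card PG = 495766656000 := prod_mc ▸ chain.card_eq card_le

theorem base : act.IsBase bs := (show bases mc = bs from (eqL_iff _ _).1 (by decide +kernel)) ▸ chain.isBase card_le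

theorem hinv : ∀ a, act.gen (inv a) = (act.gen a)⁻¹ :=
  tabOK.inv (by decide) base (by decide +kernel) (by decide +kernel)

theorem clAT : cl act.gen [9, 11] = ⊤ :=
  tabOK.cl_eq_top_of_slpIn (lo := 9) (cnt := 50) (by decide) (by decide) (by decide +kernel) clS (by decide +kernel)

end Cfsg.Agent.CG.Co3
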