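import Cfsg.Agent.Lib.Grp.Co3.ODefs

set_option autoImplicit false
set_option maxRecDepth 100000
set_option Elab.async false

namespace Cfsg.Agent.CG.Co3

theorem Oc175 : cc0.chk (appT tabs t80 0xfff) 1 239 = true := by decide +kernel
theorem Oc176 : cc1.chk (appT tabs t80 0xfff) 1 111 = true := by decide +kernel
theorem Oc177 : cc2.chk (appT tabs t80 0xfff) 1 26 = true := by decide +kernel
theorem Oc178 : cc3.chk (appT tabs t80 0xfff) 1 3 = true := by decide +kernel
theorem Oc179 : okcb 276 12 (bases cc) = true := by decide +kernel
theorem Oc180 : headAll (appT tabs t80 0xfff) cc [] = true := by decide +kernel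
theorem Oc181 : tp0.head tpR = true := by decide +kernel
theorem Oc182 : allL (fun a => tp0.chk a 0 tp0.N) tp0.S = true := by decide +kernel
theorem Oc183 : tp1.head tpR = true := by decide +kernel
theorem Oc184 : allL (fun a => tp1.chk a 0 tp1.N) tp1.S = true := by decide +kernel
theorem Oc185 : tp2.head tpR = true := by decide +kernel
theorem Oc186 : allL (fun a => tp2.chk a 0 tp2.N) tp2.S = true := by decide +kernel
theorem Oc187 : tcLink tp [] [59,60,61,62] = true := by decide +kernel
theorem Oc188 : pc0.chk (appT tabs t80 0xfff) 1 127 = true := by decide +kernel
theorem Oc189 : pc1.chk (appT tabs t80 0xfff) 1 3 = true := by decide +kernel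
theorem Oc190 : pc2.chk (appT tabs t80 0xfff) 1 1 = true := by decide +kernel
theorem Oc191 : okcb 276 12 (bases pc) = true := by decide +kernel
theorem Oc192 : headAll (appT tabs t80 0xfff) pc [] = true := by decide +kernel
theorem Oc193 : allL (fun v => eqW (appT tabs t80 0xfff) bs v []) tpR = true := by decide +kernel
theorem Oc194 : trChk (appT tabs t80 0xfff) mc0 [mc1, mc2, mc3, mc4, mc5, mc6, mc7, mc8] bs (diagQ pQ) (diagQ pR) pF 0 276 = true := by decide +kernel
theorem Oc195 : classChk (appT tabs t80 0xfff) bs 11 2 63 [9,16,21,23,21,22,26,29,30,32,38,44] pS pF pU = true := by decide +kernel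
theorem Oc196 : powChk (appT tabs t80 0xfff) bs 9 23 aK nK = true := by decide +kernel
theorem Oc197 : en.chk (appT tabs t80 0xfff) tst 0 4599 0 111031926649120900944 = true := by decide +kernel
theorem Oc198 : en.chk (appT tabs t80 0xfff) tst 4599 4599 111031926649120900944 235314247688086783428 = true := by decide +kernel
theorem Oc199 : en.chk (appT tabs t80 0xfff) tst 9198 4599 235314247688086783428 346285282560637551564 = true := by decide +kernel
theorem Oc200 : en.chk (appT tabs t80 0xfff) tst 13797 4599 346285282560637551564 470523770966651046660 = true := by decide +kernel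
theorem Oc201 : en.chk (appT tabs t80 0xfff) tst 18396 4599 470523770966651046660 581613021238671706548 = true := by decide +kernel
theorem Oc202 : en.chk (appT tabs t80 0xfff) tst 22995 4599 581613021238671706548 705753473922231043608 = true := by decide +kernel
theorem Oc203 : en.chk (appT tabs t80 0xfff) tst 27594 4599 705753473922231043608 816748252438078196076 = true := by decide +kernel
theorem Oc204 : en.chk (appT tabs t80 0xfff) tst 32193 4599 816748252438078196076 940956229430647309812 = true := by decide +kernel
theorem Oc205 : en.chk (appT tabs t80 0xfff) tst 36792 4599 940956229430647309812 1051974638693269046328 = true := by decide +kernel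
theorem Oc206 : en.chk (appT tabs t80 0xfff) tst 41391 4599 1051974638693269046328 1176118459162234947696 = true := by decide +kernel
theorem Oc207 : en.chk (appT tabs t80 0xfff) tst 45990 4599 1176118459162234947696 1287292211271693681156 = true := by decide +kernel
theorem Oc208 : en.chk (appT tabs t80 0xfff) tst 50589 4599 1287292211271693681156 1411314531066875759472 = true := by decide +kernel
theorem Oc209 : en.chk (appT tabs t80 0xfff) tst 55188 4599 1411314531066875759472 1522484842783127717796 = true := by decide +kernel
theorem Oc210 : en.chk (appT tabs t80 0xfff) tst 59787 4599 1522484842783127717796 1646510546832815999880 = true := by decide +kernel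
theorem Oc211 : en.chk (appT tabs t80 0xfff) tst 64386 4599 1646510546832815999880 1757717863198280859816 = true := by decide +kernel
theorem Oc212 : en.chk (appT tabs t80 0xfff) tst 68985 4599 1757717863198280859816 1881706556046385693644 = true := by decide +kernel
theorem Oc213 : en.chk (appT tabs t80 0xfff) tst 73584 4599 1881706556046385693644 1992930849120483019428 = true := by decide +kernel
theorem Oc214 : en.chk (appT tabs t80 0xfff) tst 78183 4599 1992930849120483019428 2117040903315099797628 = true := by decide +kernel
theorem Oc215 : en.chk (appT tabs t80 0xfff) tst 82782 4599 2117040903315099797628 2227471519449248615472 = true := by decide +kernel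
theorem Oc216 : en.chk (appT tabs t80 0xfff) tst 87381 4599 2227471519449248615472 2227583026422803251452 = true := by decide +kernel
theorem Oc217 : en.chk (appT tabs t80 0xfff) tst 91980 4599 2227583026422803251452 2227789045450440281208 = true := by decide +kernel
theorem Oc218 : en.chk (appT tabs t80 0xfff) tst 96579 4599 2227789045450440281208 2228015185604508844992 = true := by decide +kernel
theorem Oc219 : en.chk (appT tabs t80 0xfff) tst 101178 4599 2228015185604508844992 2228217901197587794884 = true := by decide +kernel
theorem Oc220 : en.chk (appT tabs t80 0xfff) tst 105777 4599 2228217901197587794884 2269088047212814419252 = true := by decide +kernel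

end Cfsg.Agent.CG.Co3
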