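import Cfsg.Agent.Lib.Grp.Co3.ODefs

set_option autoImplicit false
set_option maxRecDepth 100000
set_option Elab.async false

namespace Cfsg.Agent.CG.Co3

theorem Oc221 : en.chk (appT tabs t80 0xfff) tst 110376 4599 2269088047212814419252 2380200827526443041272 = true := by decide +kernel
theorem Oc222 : en.chk (appT tabs t80 0xfff) tst 114975 4599 2380200827526443041272 2504284086923129883120 = true := by decide +kernel
theorem Oc223 : en.chk (appT tabs t80 0xfff) tst 119574 4599 2504284086923129883120 2615477883359750211588 = true := by decide +kernel
theorem Oc224 : en.chk (appT tabs t80 0xfff) tst 124173 4599 2615477883359750211588 2739480124993838188452 = true := by decide +kernel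
theorem Oc225 : en.chk (appT tabs t80 0xfff) tst 128772 4599 2739480124993838188452 2850643466045002041396 = true := by decide +kernel
theorem Oc226 : en.chk (appT tabs t80 0xfff) tst 133371 4599 2850643466045002041396 2974676161368575410212 = true := by decide +kernel
theorem Oc227 : en.chk (appT tabs t80 0xfff) tst 137970 4599 2974676161368575410212 3085876671198243275724 = true := by decide +kernel
theorem Oc228 : en.chk (appT tabs t80 0xfff) tst 142569 4599 3085876671198243275724 3209872148322062991876 = true := by decide +kernel
theorem Oc229 : en.chk (appT tabs t80 0xfff) tst 147168 4599 3209872148322062991876 3321106373258523132036 = true := by decide +kernel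
theorem Oc230 : en.chk (appT tabs t80 0xfff) tst 151767 4599 3321106373258523132036 3445132246403034268620 = true := by decide +kernel
theorem Oc231 : en.chk (appT tabs t80 0xfff) tst 156366 4599 3445132246403034268620 3556450983942689539020 = true := by decide +kernel
theorem Oc232 : en.chk (appT tabs t80 0xfff) tst 160965 4599 3556450983942689539020 3680270780298139683480 = true := by decide +kernel
theorem Oc233 : en.chk (appT tabs t80 0xfff) tst 165564 4599 3680270780298139683480 3791576031795442385868 = true := by decide +kernel
theorem Oc234 : en.chk (appT tabs t80 0xfff) tst 170163 612 3791576031795442385868 3805546412248331306089 = true := by decide +kernel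
theorem Oc235 : commAll (appT tabs t80 0xfff) bs 11 cc = true := by decide +kernel
theorem Oc236 : relChk (appT tabs t80 0xfff) bs 9 11 rT = true := by decide +kernel

end Cfsg.Agent.CG.Co3
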