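import Cfsg.Agent.Lib.Grp.Co3.OC0
import Cfsg.Agent.Lib.Grp.Co3.OC1
import Cfsg.Agent.Lib.Grp.Co3.Main

set_option autoImplicit false
set_option maxRecDepth 100000
set_option Elab.async false

namespace Cfsg.Agent.CG.Co3

theorem chainC : ChainOK act cc [] :=
  chainOK_of_chk act cc [] (by simp) (okc_of_okcb Oc179) Oc180
  (allL_cons Oc175 (allL_cons Oc176 (allL_cons Oc177 (allL_cons Oc178 (allL_nil _)))))

theorem chainP : ChainOK act pc [] :=
  chainOK_of_chk act pc [] (by simp) (okc_of_okcb Oc191) Oc192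
  (allL_cons Oc188 (allL_cons Oc189 (allL_cons Oc190 (allL_nil _))))

theorem boundsP : Bounds tpR pS (2 ^ 10) :=
  (show prodTC tp = 2 ^ 10 by decide +kernel) ▸ bounds_of_chain Oc187
  (allL_cons Oc181 (allL_cons Oc183 (allL_cons Oc185 (allL_nil _))))
  (allL_cons Oc182 (allL_cons Oc184 (allL_cons Oc186 (allL_nil _))))

theorem cardP : Nat.card (cl act.gen pS) = 2 ^ 10 :=
  card_cl_eq chainP (by decide +kernel) boundsP (base.rels Oc193) (by decide +kernel)

theorem centP : ∀ g ∈ Subgroup.centralizer (cl act.gen pS : Set PG), ∃ φ ∈ pF, g = ev act.gen φ :=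
  centralizer_subset (l := mc0) (L := [mc1, mc2, mc3, mc4, mc5, mc6, mc7, mc8]) chain card_le base (Q := pQ) (Rf := pR) (by decide +kernel) (by decide +kernel) (by decide +kernel)
    Oc194

theorem autT (φ : MulAut PG) : ∃ g : PG, φ (act.gen 11) = g * act.gen 11 * g⁻¹ :=
  aut_class base (r := 2) (by norm_num) cardP (not_dvd_of_eq card (by decide +kernel)) centP
    Oc195 φ

theorem autA (φ : MulAut PG) : ∃ g : PG, ∃ a' ∈ aK, g * φ (act.gen 9) * g⁻¹ = act.gen a' :=
  aut_pow base (p := 23) (by norm_num) (not_dvd_of_eq card (by decide +kernel))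
    Oc196 φ

theorem enumOK : en.OK app tst 0 170775 0 3805546412248331306089 :=
  (Enum.OK.append (Enum.OK.append (Enum.OK.append (Enum.OK.append (Enum.OK.append (Enum.OK.append (Enum.OK.append (Enum.OK.append (Enum.OK.append (Enum.OK.append (Enum.OK.append (Enum.OK.append (Enum.OK.append (Enum.OK.append (Enum.OK.append (Enum.OK.append (Enum.OK.append (Enum.OK.append (Enum.OK.append (Enum.OK.append (Enum.OK.append (Enum.OK.append (Enum.OK.append (Enum.OK.append (Enum.OK.append (Enum.OK.append (Enum.OK.append (Enum.OK.append (Enum.OK.append (Enum.OK.append (Enum.OK.append (Enum.OK.append (Enum.OK.append (Enum.OK.append (Enum.OK.append (Enum.OK.append (Enum.OK.append (Enum.ok_of_chk Oc197)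
  (Enum.ok_of_chk Oc198))
  (Enum.ok_of_chk Oc199))
  (Enum.ok_of_chk Oc200))
  (Enum.ok_of_chk Oc201))
  (Enum.ok_of_chk Oc202))
  (Enum.ok_of_chk Oc203))
  (Enum.ok_of_chk Oc204))
  (Enum.ok_of_chk Oc205))
  (Enum.ok_of_chk Oc206))
  (Enum.ok_of_chk Oc207))
  (Enum.ok_of_chk Oc208))
  (Enum.ok_of_chk Oc209))
  (Enum.ok_of_chk Oc210))
  (Enum.ok_of_chk Oc211))
  (Enum.ok_of_chk Oc212))
  (Enum.ok_of_chk Oc213))
  (Enum.ok_of_chk Oc214))
  (Enum.ok_of_chk Oc215))
  (Enum.ok_of_chk Oc216))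
  (Enum.ok_of_chk Oc217))
  (Enum.ok_of_chk Oc218))
  (Enum.ok_of_chk Oc219))
  (Enum.ok_of_chk Oc220))
  (Enum.ok_of_chk Oc221))
  (Enum.ok_of_chk Oc222))
  (Enum.ok_of_chk Oc223))
  (Enum.ok_of_chk Oc224))
  (Enum.ok_of_chk Oc225))
  (Enum.ok_of_chk Oc226))
  (Enum.ok_of_chk Oc227))
  (Enum.ok_of_chk Oc228))
  (Enum.ok_of_chk Oc229))
  (Enum.ok_of_chk Oc230))
  (Enum.ok_of_chk Oc231))
  (Enum.ok_of_chk Oc232))
  (Enum.ok_of_chk Oc233))
  (Enum.ok_of_chk Oc234))

theorem cent_le : prodN cc ≤ Nat.card (Subgroup.centralizer {act.gen 11}) :=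
  le_card_centralizer base chainC Oc235

theorem classAll (g : PG) : ∃ f, act.Rep (g * act.gen 11 * g⁻¹) f ∧ tst f = true :=
  Enum.OK.all (A := act) (E := en) enumOK hinv (okc_of_okcb (n := 276) (w := 12) (by decide +kernel)) cent_le
    (card ▸ (ble_iff _ _).1 (by decide +kernel)) g

theorem autPair (φ : MulAut PG) : ∃ s ∈ [(9, 11)], ∃ g : PG, φ (act.gen 9) = g * act.gen s.1 * g⁻¹ ∧ φ (act.gen 11) = g * act.gen s.2 * g⁻¹ :=
  aut_pair base Oc236 (okc_of_okcb (n := 276) (w := 12) (by decide +kernel)) autA autT classAll φ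

theorem card_out : Nat.card (Out PG) = 1 := card_out_eq_one clAT autPair

end Cfsg.Agent.CG.Co3
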